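import Mathlib

/-!
# Points of schemes with values in a field

For a field `Ω` and a morphism `v : Spec Ω ⟶ Y` we consider the image point `spt v`, the
embedding `ptHom v : κ(spt v) →+* Ω` and its image `imgField v`, a subfield of `Ω`.
-/

set_option autoImplicit false
set_option linter.style.haveILetI false
universe u
open AlgebraicGeometry CategoryTheory Limits IsLocalRing

namespace Groth.Agent.Lib.Helper18.PairPt

variable {Ω : Type u} [Field Ω] {Y Z : Scheme.{u}}

/-- The image point of an `Ω`-valued point. -/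
noncomputable abbrev spt (v : Spec (CommRingCat.of Ω) ⟶ Y) : Y := v (closedPoint Ω)

/-- The residue field embedding of an `Ω`-valued point. -/
noncomputable def ptHom (v : Spec (CommRingCat.of Ω) ⟶ Y) : Y.residueField (spt v) →+* Ω :=
  (Scheme.descResidueField (Scheme.stalkClosedPointTo v)).hom

/-- The image of the residue field of the image point in `Ω`. -/
noncomputable def imgField (v : Spec (CommRingCat.of Ω) ⟶ Y) : Subfield Ω := (ptHom v).fieldRange

theorem SpecMap_ptHom (v : Spec (CommRingCat.of Ω) ⟶ Y) :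
    Spec.map (CommRingCat.ofHom (ptHom v)) ≫ Y.fromSpecResidueField (spt v) = v :=
  Scheme.descResidueField_stalkClosedPointTo_fromSpecResidueField Ω Y v

theorem mem_imgField {v : Spec (CommRingCat.of Ω) ⟶ Y} {z : Ω} :
    z ∈ imgField v ↔ ∃ a, ptHom v a = z := Iff.rfl

/-- An `Ω`-valued point given by a point `y` and an embedding `φ : κ(y) → Ω`. -/
theorem exists_eq_of_eq_SpecMap {y : Y} (φ : Y.residueField y →+* Ω)
    (v : Spec (CommRingCat.of Ω) ⟶ Y)
    (hv : v = Spec.map (CommRingCat.ofHom φ) ≫ Y.fromSpecResidueField y) :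
    ∃ e : spt v = y, ptHom v = φ.comp (Y.residueFieldCongr e).hom.hom := by
  have h1 : (Scheme.SpecToEquivOfField Ω Y) v = ⟨y, CommRingCat.ofHom φ⟩ := by
    rw [hv]
    exact (Scheme.SpecToEquivOfField Ω Y).apply_symm_apply ⟨y, CommRingCat.ofHom φ⟩
  obtain ⟨e, he⟩ := Scheme.SpecToEquivOfField_eq_iff.1 h1
  refine ⟨e, ?_⟩
  have := congrArg CommRingCat.Hom.hom he
  exact this

theorem spt_eq_of_eq_SpecMap {y : Y} (φ : Y.residueField y →+* Ω)
    (v : Spec (CommRingCat.of Ω) ⟶ Y)
    (hv : v = Spec.map (CommRingCat.ofHom φ) ≫ Y.fromSpecResidueField y) : spt v = y :=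
  (exists_eq_of_eq_SpecMap φ v hv).1

theorem imgField_eq_of_eq_SpecMap {y : Y} (φ : Y.residueField y →+* Ω)
    (v : Spec (CommRingCat.of Ω) ⟶ Y)
    (hv : v = Spec.map (CommRingCat.ofHom φ) ≫ Y.fromSpecResidueField y) :
    imgField v = φ.fieldRange := by
  obtain ⟨e, he⟩ := exists_eq_of_eq_SpecMap φ v hv
  ext z
  rw [mem_imgField, he]
  constructor
  · rintro ⟨a, rfl⟩
    exact ⟨_, rfl⟩
  · rintro ⟨b, rfl⟩
    refine ⟨(Y.residueFieldCongr e).inv.hom b, ?_⟩
    show φ ((Y.residueFieldCongr e).hom.hom ((Y.residueFieldCongr e).inv.hom b)) = φ b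
    rw [← CommRingCat.comp_apply, Iso.inv_hom_id]
    rfl

theorem ptHom_comp (v : Spec (CommRingCat.of Ω) ⟶ Y) (h : Y ⟶ Z) :
    ptHom (v ≫ h) = (ptHom v).comp (h.residueFieldMap (spt v)).hom := by
  have := Scheme.descResidueField_stalkClosedPointTo_comp h v
  exact congrArg CommRingCat.Hom.hom this

theorem imgField_comp_le (v : Spec (CommRingCat.of Ω) ⟶ Y) (h : Y ⟶ Z) :
    imgField (v ≫ h) ≤ imgField v := by
  intro z hz
  obtain ⟨a, rfl⟩ := mem_imgField.1 hz
  rw [ptHom_comp]
  exact ⟨_, rfl⟩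

theorem SpecMap_comp_eq {Ω' : Type u} [Field Ω'] (j : Ω →+* Ω')
    (w : Spec (CommRingCat.of Ω) ⟶ Y) :
    Spec.map (CommRingCat.ofHom j) ≫ w =
      Spec.map (CommRingCat.ofHom (j.comp (ptHom w))) ≫ Y.fromSpecResidueField (spt w) := by
  conv_lhs => rw [← SpecMap_ptHom w]
  rw [← Category.assoc, ← Spec.map_comp]
  rfl

theorem spt_SpecMap_comp {Ω' : Type u} [Field Ω'] (j : Ω →+* Ω')
    (w : Spec (CommRingCat.of Ω) ⟶ Y) : spt (Spec.map (CommRingCat.ofHom j) ≫ w) = spt w :=
  spt_eq_of_eq_SpecMap _ _ (SpecMap_comp_eq j w)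

theorem imgField_SpecMap_comp {Ω' : Type u} [Field Ω'] (j : Ω →+* Ω')
    (w : Spec (CommRingCat.of Ω) ⟶ Y) :
    imgField (Spec.map (CommRingCat.ofHom j) ≫ w) = (imgField w).map j := by
  rw [imgField_eq_of_eq_SpecMap _ _ (SpecMap_comp_eq j w)]
  ext z
  constructor
  · rintro ⟨a, rfl⟩
    exact ⟨ptHom w a, ⟨a, rfl⟩, rfl⟩
  · rintro ⟨_, ⟨a, rfl⟩, rfl⟩
    exact ⟨a, rfl⟩

/-- The canonical point `Spec κ(y) ⟶ Y` has full image field. -/
theorem imgField_fromSpecResidueField (y : Y) :
    imgField (Ω := Y.residueField y) (Y.fromSpecResidueField y) = ⊤ := by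
  have hv : Y.fromSpecResidueField y =
      Spec.map (CommRingCat.ofHom (RingHom.id (Y.residueField y))) ≫
        Y.fromSpecResidueField y := by
    have : Spec.map (CommRingCat.ofHom (RingHom.id (Y.residueField y))) =
        𝟙 (Spec (Y.residueField y)) := Spec.map_id _
    rw [this]
    exact (Category.id_comp _).symm
  rw [imgField_eq_of_eq_SpecMap (Ω := Y.residueField y) (RingHom.id _) _ hv]
  ext z
  simp

theorem spt_fromSpecResidueField (y : Y) :
    spt (Ω := Y.residueField y) (Y.fromSpecResidueField y) = y :=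
  Scheme.fromSpecResidueField_apply y _

/-- A point whose image field lies in a subfield `L` factors through `Spec L`. -/
theorem exists_factor (v : Spec (CommRingCat.of Ω) ⟶ Y) (L : Subfield Ω) (h : imgField v ≤ L) :
    ∃ v' : Spec (CommRingCat.of L) ⟶ Y, Spec.map (CommRingCat.ofHom L.subtype) ≫ v' = v := by
  let c : Y.residueField (spt v) →+* L := (ptHom v).codRestrict L (fun a => h ⟨a, rfl⟩)
  refine ⟨Spec.map (CommRingCat.ofHom c) ≫ Y.fromSpecResidueField (spt v), ?_⟩
  rw [← Category.assoc, ← Spec.map_comp]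
  exact SpecMap_ptHom v

/-- `Spec` of a field extension is an epimorphism of schemes. -/
theorem epi_SpecMap_field {L : Type u} [Field L] (j : L →+* Ω) :
    Epi (Spec.map (CommRingCat.ofHom j)) := by
  have hff : (CommRingCat.ofHom j).hom.FaithfullyFlat := by
    show j.FaithfullyFlat
    letI := j.toAlgebra
    exact (RingHom.faithfullyFlat_algebraMap_iff (R := L) (S := Ω)).2 inferInstance
  obtain ⟨h1, h2⟩ := (flat_and_surjective_SpecMap_iff (CommRingCat.ofHom j)).2 hff
  exact Flat.epi_of_flat_of_surjective _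

/-- The residue field of a point of a fibre product is generated by the residue fields of its
projections. -/
theorem imgField_of_isPullback {P X S : Scheme.{u}} {fst : P ⟶ X} {snd : P ⟶ Y} {f : X ⟶ S}
    {g : Y ⟶ S} (hP : IsPullback fst snd f g) (v : Spec (CommRingCat.of Ω) ⟶ P) :
    imgField v = imgField (v ≫ fst) ⊔ imgField (v ≫ snd) := by
  apply le_antisymm
  · set L : Subfield Ω := imgField (v ≫ fst) ⊔ imgField (v ≫ snd) with hL
    obtain ⟨a', ha'⟩ := exists_factor (v ≫ fst) L le_sup_left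
    obtain ⟨b', hb'⟩ := exists_factor (v ≫ snd) L le_sup_right
    haveI := epi_SpecMap_field (Ω := Ω) L.subtype
    have hab : a' ≫ f = b' ≫ g := by
      rw [← cancel_epi (Spec.map (CommRingCat.ofHom L.subtype)), ← Category.assoc, ha',
        ← Category.assoc, hb', Category.assoc, Category.assoc, hP.w]
    have hw : Spec.map (CommRingCat.ofHom L.subtype) ≫ hP.lift a' b' hab = v := by
      apply hP.hom_ext
      · rw [Category.assoc, hP.lift_fst, ha']
      · rw [Category.assoc, hP.lift_snd, hb']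
    rw [← hw, imgField_SpecMap_comp]
    rintro _ ⟨z, _, rfl⟩
    exact z.2
  · exact sup_le (imgField_comp_le v fst) (imgField_comp_le v snd)

/-- A point with image `x` comes from an embedding of `κ(x)`. -/
theorem exists_hom_of_spt_eq (w : Spec (CommRingCat.of Ω) ⟶ Y) (y : Y) (h : spt w = y) :
    ∃ φ : Y.residueField y →+* Ω,
      w = Spec.map (CommRingCat.ofHom φ) ≫ Y.fromSpecResidueField y := by
  subst h
  exact ⟨ptHom w, (SpecMap_ptHom w).symm⟩

theorem ptHom_injective (v : Spec (CommRingCat.of Ω) ⟶ Y) : Function.Injective (ptHom v) :=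
  (ptHom v).injective

end Groth.Agent.Lib.Helper18.PairPt
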