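import Mathlib
import Groth.Agent.Lib.Helper18.PairPt.SpecPt
import Groth.Agent.Lib.Helper18.GalFibre

/-!
# Closed points and Galois orbits of points with values in an algebraic closure
-/

set_option autoImplicit false
set_option linter.style.haveILetI false
universe u
open AlgebraicGeometry CategoryTheory Limits IsLocalRing

namespace Groth.Agent.Lib.Helper18.PairPt

/-- Two embeddings over `k` of an extension `E` into an algebraic closure of `k` differ by an
automorphism of the algebraic closure. -/
theorem exists_aut_of_algClosure {k E K : Type*} [Field k] [Field E] [Field K] [Algebra k E]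
    [Algebra k K] [IsAlgClosure k K] (φ₁ φ₂ : E →+* K)
    (h₁ : φ₁.comp (algebraMap k E) = algebraMap k K)
    (h₂ : φ₂.comp (algebraMap k E) = algebraMap k K) :
    ∃ σ : K ≃ₐ[k] K, ∀ e, φ₂ e = σ (φ₁ e) := by
  letI : Algebra E K := φ₁.toAlgebra
  haveI : IsScalarTower k E K :=
    IsScalarTower.of_algebraMap_eq (fun r => (RingHom.congr_fun h₁ r).symm)
  haveI : Algebra.IsAlgebraic k K := IsAlgClosure.isAlgebraic
  haveI : Algebra.IsAlgebraic E K := Algebra.IsAlgebraic.tower_top (K := k) E
  haveI : IsAlgClosed K := IsAlgClosure.isAlgClosed k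
  let f : E →ₐ[k] K := { φ₂ with commutes' := fun r => RingHom.congr_fun h₂ r }
  obtain ⟨φ, hφ⟩ := IsAlgClosed.surjective_domRestrict_of_isAlgebraic (K := k) (L := E) (M := K)
    (E := K) f
  have hbij : Function.Bijective φ := Algebra.IsAlgebraic.algHom_bijective φ
  refine ⟨AlgEquiv.ofBijective φ hbij, fun e => ?_⟩
  have := DFunLike.congr_fun hφ e
  exact this.symm

section main

variable (k K : Type u) [Field k] [Field K] [Algebra k K] {X : Scheme.{u}}
  (f : X ⟶ Spec (CommRingCat.of k))

/-- The structure map of the residue field of a point of a `k`-scheme. -/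
noncomputable def resStr (x : X) : CommRingCat.of k ⟶ X.residueField x :=
  Spec.preimage (X.fromSpecResidueField x ≫ f)

theorem SpecMap_resStr (x : X) : Spec.map (resStr k f x) = X.fromSpecResidueField x ≫ f :=
  Spec.map_preimage _

variable {k K f}

theorem comp_resStr_of_over {x : X} (φ : X.residueField x →+* K)
    (h : (Spec.map (CommRingCat.ofHom φ) ≫ X.fromSpecResidueField x) ≫ f =
      Spec.map (CommRingCat.ofHom (algebraMap k K))) :
    φ.comp (resStr k f x).hom = algebraMap k K := by
  rw [Category.assoc, ← SpecMap_resStr, ← Spec.map_comp] at h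
  have h1 := Spec.map_injective h
  exact congrArg CommRingCat.Hom.hom h1

theorem over_of_comp_resStr {x : X} (φ : X.residueField x →+* K)
    (h : φ.comp (resStr k f x).hom = algebraMap k K) :
    (Spec.map (CommRingCat.ofHom φ) ≫ X.fromSpecResidueField x) ≫ f =
      Spec.map (CommRingCat.ofHom (algebraMap k K)) := by
  rw [Category.assoc, ← SpecMap_resStr, ← Spec.map_comp, ← h]
  rfl

variable [IsAlgClosure k K] [LocallyOfFiniteType f]

theorem isClosed_iff_exists_point (x : X) :
    IsClosed ({x} : Set X) ↔
      ∃ p : Spec (CommRingCat.of K) ⟶ X,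
        p ≫ f = Spec.map (CommRingCat.ofHom (algebraMap k K)) ∧ p (closedPoint K) = x := by
  haveI : JacobsonSpace X := LocallyOfFiniteType.jacobsonSpace f
  haveI : Algebra.IsAlgebraic k K := IsAlgClosure.isAlgebraic
  haveI : IsAlgClosed K := IsAlgClosure.isAlgClosed k
  letI alg : Algebra k (X.residueField x) := (resStr k f x).hom.toAlgebra
  constructor
  · intro hx
    have hfin : IsFinite (X.fromSpecResidueField x ≫ f) := by
      rw [isClosed_singleton_iff_isClosedImmersion] at hx
      rw [isFinite_iff_locallyOfFiniteType_of_jacobsonSpace]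
      infer_instance
    rw [← SpecMap_resStr, IsFinite.SpecMap_iff] at hfin
    haveI : Module.Finite k (X.residueField x) := hfin
    let emb : X.residueField x →ₐ[k] K := IsAlgClosed.lift
    refine ⟨Spec.map (CommRingCat.ofHom emb.toRingHom) ≫ X.fromSpecResidueField x, ?_, ?_⟩
    · apply over_of_comp_resStr
      ext r
      exact emb.commutes r
    · exact spt_eq_of_eq_SpecMap _ _ rfl
  · rintro ⟨p, hp, rfl⟩
    have hp' : (Spec.map (CommRingCat.ofHom (ptHom p)) ≫ X.fromSpecResidueField (spt p)) ≫ f =
        Spec.map (CommRingCat.ofHom (algebraMap k K)) := by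
      rw [SpecMap_ptHom]
      exact hp
    have hc := comp_resStr_of_over (ptHom p) hp'
    letI alg' : Algebra k (X.residueField (spt p)) := (resStr k f (spt p)).hom.toAlgebra
    let g : X.residueField (spt p) →ₐ[k] K :=
      { ptHom p with commutes' := fun r => RingHom.congr_fun hc r }
    haveI : Algebra.IsAlgebraic k (X.residueField (spt p)) :=
      Algebra.IsAlgebraic.of_injective g g.injective
    haveI : Algebra.EssFiniteType k (X.residueField (spt p)) :=
      Groth.Agent.Lib.Helper18.GalFibre.essFiniteType_preimage f (spt p)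
    haveI : Module.Finite k (X.residueField (spt p)) :=
      Algebra.finite_of_essFiniteType_of_isAlgebraic
    have hfin : IsFinite (Spec.map (resStr k f (spt p))) := by
      rw [IsFinite.SpecMap_iff]
      exact RingHom.finite_algebraMap.2 ‹Module.Finite k (X.residueField (spt p))›
    rw [SpecMap_resStr] at hfin
    haveI : LocallyOfFiniteType (X.fromSpecResidueField (spt p) ≫ f) := inferInstance
    haveI : LocallyOfFiniteType (X.fromSpecResidueField (spt p)) :=
      locallyOfFiniteType_of_comp _ f
    exact isClosed_singleton_iff_locallyOfFiniteType.2 inferInstance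

omit [LocallyOfFiniteType f] in
theorem same_image_iff (p q : Spec (CommRingCat.of K) ⟶ X)
    (hp : p ≫ f = Spec.map (CommRingCat.ofHom (algebraMap k K)))
    (hq : q ≫ f = Spec.map (CommRingCat.ofHom (algebraMap k K))) :
    p (closedPoint K) = q (closedPoint K) ↔
      ∃ σ : K ≃ₐ[k] K, q = Spec.map (CommRingCat.ofHom σ.toRingHom) ≫ p := by
  constructor
  · intro h
    obtain ⟨φq, hφq⟩ := exists_hom_of_spt_eq q (spt p) h.symm
    have hp' : (Spec.map (CommRingCat.ofHom (ptHom p)) ≫ X.fromSpecResidueField (spt p)) ≫ f =
        Spec.map (CommRingCat.ofHom (algebraMap k K)) := by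
      rw [SpecMap_ptHom]
      exact hp
    have hq' : (Spec.map (CommRingCat.ofHom φq) ≫ X.fromSpecResidueField (spt p)) ≫ f =
        Spec.map (CommRingCat.ofHom (algebraMap k K)) := by
      rw [← hφq]
      exact hq
    letI alg' : Algebra k (X.residueField (spt p)) := (resStr k f (spt p)).hom.toAlgebra
    obtain ⟨σ, hσ⟩ := exists_aut_of_algClosure (k := k) (ptHom p) φq
      (comp_resStr_of_over _ hp') (comp_resStr_of_over _ hq')
    refine ⟨σ, ?_⟩
    have h1 : φq = (σ.toRingHom).comp (ptHom p) := by
      ext e
      exact hσ e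
    rw [hφq, h1, CommRingCat.ofHom_comp, Spec.map_comp, Category.assoc, SpecMap_ptHom]
  · rintro ⟨σ, rfl⟩
    exact (spt_SpecMap_comp σ.toRingHom p).symm

end main

end Groth.Agent.Lib.Helper18.PairPt
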