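import Mathlib

/-!
# General lemmas for the compositum construction

* `flat_of_injective_of_field`: an injective map from a domain to a field is flat.
* `comap_mem_minimalPrimes_of_flat`: minimal primes contract to minimal primes along flat maps.
* `C_coeff_mem_of_mem_minimalPrimes`: a minimal prime of `R[T]` is extended from `R`.
* `comap_mem_minimalPrimes_of_surjective_of_algebraic`-type lemma for the generization argument.
-/

set_option autoImplicit false
universe u
open TensorProduct

namespace Groth.Agent.Lib.Helper18.PairPt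

/-- An injective map from a domain to a field is flat. -/
theorem flat_of_injective_of_field (D K : Type*) [CommRing D] [IsDomain D] [Field K] [Algebra D K]
    (h : Function.Injective (algebraMap D K)) : Module.Flat D K := by
  let F := FractionRing D
  letI : Algebra F K := (IsFractionRing.lift h).toAlgebra
  haveI : IsScalarTower D F K :=
    IsScalarTower.of_algebraMap_eq fun x => (IsFractionRing.lift_algebraMap h x).symm
  exact Module.Flat.trans D F K

/-- Minimal primes contract to minimal primes along flat ring maps. -/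
theorem comap_mem_minimalPrimes_of_flat {R S : Type*} [CommRing R] [CommRing S] (f : R →+* S)
    (hf : f.Flat) {q : Ideal S} (hq : q ∈ minimalPrimes S) : q.comap f ∈ minimalPrimes R := by
  algebraize [f]
  haveI hqp : q.IsPrime := hq.1.1
  let q₀ : Ideal R := q.comap (algebraMap R S)
  haveI hq₀p : q₀.IsPrime := Ideal.comap_isPrime _ _
  show q₀ ∈ minimalPrimes R
  refine ⟨⟨hq₀p, bot_le⟩, fun p' hp' hle => ?_⟩
  haveI := hp'.1
  haveI : q.LiesOver q₀ := ⟨rfl⟩
  obtain ⟨P, hPq, hP, hPp'⟩ := Ideal.exists_ideal_le_liesOver_of_le (p := p') (q := q₀) q hle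
  have hqP : q ≤ P := hq.2 ⟨hP, bot_le⟩ hPq
  have hPeq : P = q := le_antisymm hPq hqP
  rw [hPp'.over, hPeq]

/-- A minimal prime of `R[T]` is extended from `R`. -/
theorem C_coeff_mem_of_mem_minimalPrimes {R : Type*} [CommRing R] {ι : Type*}
    {q : Ideal (MvPolynomial ι R)} (hq : q ∈ minimalPrimes (MvPolynomial ι R))
    {P : MvPolynomial ι R} (hP : P ∈ q) (m : ι →₀ ℕ) : MvPolynomial.C (P.coeff m) ∈ q := by
  haveI := hq.1.1
  let s : Ideal R := q.comap MvPolynomial.C
  haveI : s.IsPrime := Ideal.comap_isPrime _ _
  have hle : Ideal.map (MvPolynomial.C : R →+* MvPolynomial ι R) s ≤ q := Ideal.map_comap_le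
  have hprime : (Ideal.map (MvPolynomial.C : R →+* MvPolynomial ι R) s).IsPrime := by
    have h1 := MvPolynomial.ker_map (σ := ι) (Ideal.Quotient.mk s)
    rw [Ideal.mk_ker] at h1
    rw [← h1]
    exact RingHom.ker_isPrime _
  have hqle : q ≤ Ideal.map (MvPolynomial.C : R →+* MvPolynomial ι R) s :=
    hq.2 ⟨hprime, bot_le⟩ hle
  exact (MvPolynomial.mem_map_C_iff.1 (hqle hP)) m

end Groth.Agent.Lib.Helper18.PairPt
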