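import Mathlib
import Groth.Agent.Lib.Helper18.PairPt.Gen

/-!
# Minimal primes of `K₁ ⊗[Kx] K₂` pull back to minimal primes of `K₁ ⊗[D] K₂`

when `Kx` is algebraic over the image of `D`.
-/

set_option autoImplicit false
universe u
open TensorProduct

namespace Groth.Agent.Lib.Helper18.PairPt

/-- Two ring homomorphisms from a field `Kx` to a domain which agree on the image of a ring `R₀`
over which `Kx` is algebraic, and whose difference takes values in a proper ideal, are equal. -/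
theorem ringHom_eq_of_sub_mem {Kx Ā : Type*} [Field Kx] [CommRing Ā] [IsDomain Ā]
    (l r : Kx →+* Ā) (R₀ : Type*) [CommRing R₀] [Algebra R₀ Kx]
    (hinj : Function.Injective (algebraMap R₀ Kx))
    (hR₀ : ∀ x : R₀, l (algebraMap R₀ Kx x) = r (algebraMap R₀ Kx x))
    (halg : ∀ a : Kx, IsAlgebraic R₀ a) (I : Ideal Ā) (hI : I ≠ ⊤)
    (hsub : ∀ a : Kx, l a - r a ∈ I) : l = r := by
  letI : Algebra Kx Ā := l.toAlgebra
  ext a
  by_contra hne
  have hβ : IsAlgebraic Kx (r a) := by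
    refine IsAlgebraic.ringHom_of_comp_eq (R := R₀) (A := Kx) (S := Kx) (B := Ā)
      (algebraMap R₀ Kx) r (halg a) hinj ?_
    ext x
    exact hR₀ x
  have hα : IsAlgebraic Kx (algebraMap Kx Ā a) := isAlgebraic_algebraMap a
  have hγ : IsAlgebraic Kx (algebraMap Kx Ā a - r a) := hα.sub hβ
  have hγ0 : algebraMap Kx Ā a - r a ≠ 0 := sub_ne_zero.2 hne
  have hu : IsUnit (algebraMap Kx Ā a - r a) := hγ.isIntegral.isUnit hγ0
  exact hI (Ideal.eq_top_of_isUnit_mem I (hsub a) hu)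

section

variable {D Kx K₁ K₂ : Type u} [CommRing D] [Field Kx] [Field K₁] [Field K₂]
  [Algebra D Kx] [Algebra D K₁] [Algebra D K₂] [Algebra Kx K₁] [Algebra Kx K₂]
  [IsScalarTower D Kx K₁] [IsScalarTower D Kx K₂]

/-- The canonical surjection `K₁ ⊗[D] K₂ → K₁ ⊗[Kx] K₂`. -/
noncomputable def piMap : (K₁ ⊗[D] K₂) →ₐ[Kx] (K₁ ⊗[Kx] K₂) :=
  Algebra.TensorProduct.mapOfCompatibleSMul Kx D Kx K₁ K₂

@[simp]
theorem piMap_tmul (x : K₁) (y : K₂) : piMap (D := D) (Kx := Kx) (x ⊗ₜ[D] y) = x ⊗ₜ[Kx] y := rfl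

theorem piMap_surjective : Function.Surjective (piMap (D := D) (Kx := Kx) (K₁ := K₁) (K₂ := K₂)) :=
  Algebra.TensorProduct.mapOfCompatibleSMul_surjective Kx D Kx K₁ K₂

theorem ker_piMap_le (Q : Ideal (K₁ ⊗[D] K₂))
    (hQ : ∀ a : Kx, (algebraMap Kx K₁ a) ⊗ₜ[D] (1 : K₂) - (1 : K₁) ⊗ₜ[D] (algebraMap Kx K₂ a) ∈ Q) :
    RingHom.ker (piMap (D := D) (Kx := Kx) (K₁ := K₁) (K₂ := K₂)).toRingHom ≤ Q := by
  intro x hx
  have hx' : x ∈ LinearMap.ker
      (TensorProduct.mapOfCompatibleSMul Kx D Kx K₁ K₂) := by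
    rw [LinearMap.mem_ker]
    exact hx
  rw [TensorProduct.AlgebraTensorModule.ker_mapOfCompatibleSMul] at hx'
  refine Submodule.span_induction (p := fun y _ => y ∈ Q) ?_ Q.zero_mem
    (fun _ _ _ _ h1 h2 => Q.add_mem h1 h2) ?_ hx'
  · rintro _ ⟨a, m, n, rfl⟩
    have h1 : (a • m) ⊗ₜ[D] n - m ⊗ₜ[D] (a • n) =
        ((algebraMap Kx K₁ a) ⊗ₜ[D] (1 : K₂) - (1 : K₁) ⊗ₜ[D] (algebraMap Kx K₂ a)) *
          (m ⊗ₜ[D] n) := by
      rw [sub_mul, Algebra.TensorProduct.tmul_mul_tmul, Algebra.TensorProduct.tmul_mul_tmul,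
        one_mul, one_mul, ← Algebra.smul_def, ← Algebra.smul_def]
    rw [h1]
    exact Q.mul_mem_right _ (hQ a)
  · intro k y _ hy
    rw [Algebra.smul_def]
    exact Q.mul_mem_left _ hy

/-- If `Kx` is algebraic over the image of `D`, minimal primes of `K₁ ⊗[Kx] K₂` pull back to
minimal primes of `K₁ ⊗[D] K₂`. -/
theorem comap_piMap_mem_minimalPrimes
    (hinj : Function.Injective (algebraMap D Kx)) (halg : ∀ a : Kx, IsAlgebraic D a)
    {P : Ideal (K₁ ⊗[Kx] K₂)} (hP : P ∈ minimalPrimes (K₁ ⊗[Kx] K₂)) :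
    P.comap (piMap (D := D) (Kx := Kx) (K₁ := K₁) (K₂ := K₂)).toRingHom ∈
      minimalPrimes (K₁ ⊗[D] K₂) := by
  haveI hPp : P.IsPrime := hP.1.1
  set π := (piMap (D := D) (Kx := Kx) (K₁ := K₁) (K₂ := K₂)).toRingHom with hπ
  have hπs : Function.Surjective π := piMap_surjective
  set P'' : Ideal (K₁ ⊗[D] K₂) := P.comap π with hP''
  haveI hP''p : P''.IsPrime := Ideal.comap_isPrime _ _
  refine ⟨⟨hP''p, bot_le⟩, fun Q hQ hle => ?_⟩
  haveI hQp : Q.IsPrime := hQ.1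
  have hz : ∀ a : Kx,
      (algebraMap Kx K₁ a) ⊗ₜ[D] (1 : K₂) - (1 : K₁) ⊗ₜ[D] (algebraMap Kx K₂ a) ∈ P'' := by
    intro a
    show π _ ∈ P
    have : π ((algebraMap Kx K₁ a) ⊗ₜ[D] (1 : K₂) - (1 : K₁) ⊗ₜ[D] (algebraMap Kx K₂ a)) = 0 := by
      rw [map_sub]
      show (algebraMap Kx K₁ a) ⊗ₜ[Kx] (1 : K₂) - (1 : K₁) ⊗ₜ[Kx] (algebraMap Kx K₂ a) = 0
      rw [Algebra.algebraMap_eq_smul_one, Algebra.algebraMap_eq_smul_one, TensorProduct.smul_tmul,
        sub_self]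
    rw [this]
    exact P.zero_mem
  have hker : RingHom.ker π ≤ Q := by
    refine ker_piMap_le Q (fun a => ?_)
    let l : Kx →+* (K₁ ⊗[D] K₂) ⧸ Q :=
      (Ideal.Quotient.mk Q).comp
        ((Algebra.TensorProduct.includeLeftRingHom (R := D) (A := K₁) (B := K₂)).comp
          (algebraMap Kx K₁))
    let r : Kx →+* (K₁ ⊗[D] K₂) ⧸ Q :=
      (Ideal.Quotient.mk Q).comp
        ((Algebra.TensorProduct.includeRight (R := D) (A := K₁) (B := K₂)).toRingHom.comp
          (algebraMap Kx K₂))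
    have hlr : l = r := by
      refine ringHom_eq_of_sub_mem l r D hinj ?_ halg
        (Ideal.map (Ideal.Quotient.mk Q) P'') ?_ ?_
      · intro d
        show Ideal.Quotient.mk Q ((algebraMap Kx K₁ (algebraMap D Kx d)) ⊗ₜ[D] (1 : K₂)) =
          Ideal.Quotient.mk Q ((1 : K₁) ⊗ₜ[D] (algebraMap Kx K₂ (algebraMap D Kx d)))
        rw [← IsScalarTower.algebraMap_apply, ← IsScalarTower.algebraMap_apply,
          Algebra.algebraMap_eq_smul_one, Algebra.algebraMap_eq_smul_one, TensorProduct.smul_tmul]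
      · intro htop
        have h1 := Ideal.comap_map_of_surjective (Ideal.Quotient.mk Q)
          Ideal.Quotient.mk_surjective P''
        rw [htop, Ideal.comap_top] at h1
        have h2 : Ideal.comap (Ideal.Quotient.mk Q) ⊥ = Q := by
          rw [← RingHom.ker_eq_comap_bot, Ideal.mk_ker]
        rw [h2, sup_eq_left.2 hle] at h1
        exact hP''p.ne_top h1.symm
      · intro a
        have : l a - r a = Ideal.Quotient.mk Q
            ((algebraMap Kx K₁ a) ⊗ₜ[D] (1 : K₂) - (1 : K₁) ⊗ₜ[D] (algebraMap Kx K₂ a)) := by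
          rw [map_sub]
          rfl
        rw [this]
        exact Ideal.mem_map_of_mem _ (hz a)
    have h3 := congrArg (fun f => f a) hlr
    have h4 : Ideal.Quotient.mk Q
        ((algebraMap Kx K₁ a) ⊗ₜ[D] (1 : K₂) - (1 : K₁) ⊗ₜ[D] (algebraMap Kx K₂ a)) = 0 := by
      rw [map_sub, sub_eq_zero]
      exact h3
    exact Ideal.Quotient.eq_zero_iff_mem.1 h4
  have hmapprime : (Ideal.map π Q).IsPrime := Ideal.map_isPrime_of_surjective hπs hker
  have hmaple : Ideal.map π Q ≤ P := Ideal.map_le_iff_le_comap.2 hle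
  have hPle : P ≤ Ideal.map π Q := hP.2 ⟨hmapprime, bot_le⟩ hmaple
  have h5 : P'' ≤ Ideal.comap π (Ideal.map π Q) := Ideal.comap_mono hPle
  rw [Ideal.comap_map_of_surjective π hπs, ← RingHom.ker_eq_comap_bot, sup_eq_left.2 hker] at h5
  exact h5

end

end Groth.Agent.Lib.Helper18.PairPt
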