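import Mathlib

/-!
# `(κ₁ ⊗[κ] κ₂)[T]` is the pushout of `κ₁[T]` and `κ₂[T]` over `κ[T]`
-/

set_option autoImplicit false
universe u
open TensorProduct

namespace Groth.Agent.Lib.Helper18.PairPt

attribute [local instance] MvPolynomial.algebraMvPolynomial
attribute [local instance] Algebra.TensorProduct.rightAlgebra

theorem isScalarTower_mvPolynomial (ι : Type*) (A B C : Type*) [CommSemiring A] [CommSemiring B]
    [CommSemiring C] [Algebra A B] [Algebra B C] [Algebra A C] [IsScalarTower A B C] :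
    IsScalarTower (MvPolynomial ι A) (MvPolynomial ι B) (MvPolynomial ι C) := by
  refine IsScalarTower.of_algebraMap_eq fun p => ?_
  rw [MvPolynomial.algebraMap_def, MvPolynomial.algebraMap_def, MvPolynomial.algebraMap_def,
    MvPolynomial.map_map, ← IsScalarTower.algebraMap_eq]

theorem isScalarTower_base_mvPolynomial (ι : Type*) (A B C : Type*) [CommSemiring A]
    [CommSemiring B] [CommSemiring C] [Algebra A B] [Algebra B C] [Algebra A C]
    [IsScalarTower A B C] :
    IsScalarTower A (MvPolynomial ι B) (MvPolynomial ι C) := by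
  refine IsScalarTower.of_algebraMap_eq fun x => ?_
  rw [MvPolynomial.algebraMap_def, MvPolynomial.algebraMap_apply, MvPolynomial.algebraMap_apply,
    MvPolynomial.map_C, ← IsScalarTower.algebraMap_apply]

attribute [local instance] isScalarTower_mvPolynomial isScalarTower_base_mvPolynomial

variable (κ κ₁ κ₂ : Type u) [CommRing κ] [CommRing κ₁] [CommRing κ₂] [Algebra κ κ₁] [Algebra κ κ₂]
  (ι : Type*)

theorem isPushout_mvPolynomial_tensor :
    Algebra.IsPushout (MvPolynomial ι κ) (MvPolynomial ι κ₁) (MvPolynomial ι κ₂)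
      (MvPolynomial ι (κ₁ ⊗[κ] κ₂)) := by
  have h1 : Algebra.IsPushout κ (MvPolynomial ι κ₁) κ₂ (MvPolynomial ι (κ₁ ⊗[κ] κ₂)) :=
    (Algebra.IsPushout.comp_iff κ κ₁ κ₂ (S' := κ₁ ⊗[κ] κ₂) (T := MvPolynomial ι κ₁)
      (T' := MvPolynomial ι (κ₁ ⊗[κ] κ₂))).2 inferInstance
  exact (Algebra.IsPushout.comp_iff κ (MvPolynomial ι κ) κ₂ (S' := MvPolynomial ι κ₂)
    (T := MvPolynomial ι κ₁) (T' := MvPolynomial ι (κ₁ ⊗[κ] κ₂))).1 h1

end Groth.Agent.Lib.Helper18.PairPt
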