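import Mathlib
import Groth.Agent.Lib.Helper18.PairPt.Gen
import Groth.Agent.Lib.Helper18.PairPt.Generize
import Groth.Agent.Lib.Helper18.PairPt.PolyPushout

/-!
# A compositum of two extensions in which a transcendence basis stays independent
-/

set_option autoImplicit false
set_option linter.style.haveILetI false
universe u
open TensorProduct

namespace Groth.Agent.Lib.Helper18.PairPt

attribute [local instance] MvPolynomial.algebraMvPolynomial
attribute [local instance] Algebra.TensorProduct.rightAlgebra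
attribute [local instance] isScalarTower_mvPolynomial isScalarTower_base_mvPolynomial

/-- Algebraicity over `adjoin κ (range t)` gives algebraicity over `κ[T]` acting through `t`. -/
theorem isAlgebraic_mvPolynomial_of_adjoin {κ Kx : Type*} [CommRing κ] [CommRing Kx] [Algebra κ Kx]
    {ι : Type*} (t : ι → Kx) (a : Kx) (h : IsAlgebraic (Algebra.adjoin κ (Set.range t)) a) :
    letI := (MvPolynomial.aeval t : MvPolynomial ι κ →ₐ[κ] Kx).toRingHom.toAlgebra
    IsAlgebraic (MvPolynomial ι κ) a := by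
  letI := (MvPolynomial.aeval t : MvPolynomial ι κ →ₐ[κ] Kx).toRingHom.toAlgebra
  let f : MvPolynomial ι κ →ₐ[κ] (Algebra.adjoin κ (Set.range t)) :=
    (MvPolynomial.aeval t : MvPolynomial ι κ →ₐ[κ] Kx).codRestrict (Algebra.adjoin κ (Set.range t))
      (fun p => by rw [Algebra.adjoin_range_eq_range_aeval]; exact ⟨p, rfl⟩)
  have hf : Function.Surjective f := by
    rintro ⟨y, hy⟩
    rw [Algebra.adjoin_range_eq_range_aeval] at hy
    obtain ⟨p, rfl⟩ := hy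
    exact ⟨p, rfl⟩
  refine IsAlgebraic.of_ringHom_of_comp_eq (R := MvPolynomial ι κ)
    (S := Algebra.adjoin κ (Set.range t)) (A := Kx) (B := Kx) f (RingHom.id Kx) h hf
    Function.injective_id ?_
  ext p <;> rfl

section

variable {κ Kx κ₁ κ₂ K₁ K₂ : Type u} [Field κ] [Field Kx] [Field κ₁] [Field κ₂] [Field K₁]
  [Field K₂] [Algebra κ Kx] [Algebra κ κ₁] [Algebra κ κ₂] [Algebra Kx K₁] [Algebra Kx K₂]
  [Algebra κ₁ K₁] [Algebra κ₂ K₂] [Algebra κ K₁] [Algebra κ K₂]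
  [IsScalarTower κ Kx K₁] [IsScalarTower κ Kx K₂] [IsScalarTower κ κ₁ K₁] [IsScalarTower κ κ₂ K₂]
  {ι : Type u} (t : ι → Kx)

theorem exists_compositum_aux (ht : IsTranscendenceBasis κ t)
    (h₁ : AlgebraicIndependent κ₁ (algebraMap Kx K₁ ∘ t))
    (h₂ : AlgebraicIndependent κ₂ (algebraMap Kx K₂ ∘ t)) :
    ∃ (Ω : Type u) (_ : Field Ω) (j₁ : K₁ →+* Ω) (j₂ : K₂ →+* Ω)
      (Φ : MvPolynomial ι (κ₁ ⊗[κ] κ₂) →+* Ω),
      j₁.comp (algebraMap Kx K₁) = j₂.comp (algebraMap Kx K₂) ∧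
      RingHom.ker Φ ∈ minimalPrimes (MvPolynomial ι (κ₁ ⊗[κ] κ₂)) ∧
      (∀ i, Φ (MvPolynomial.X i) = j₁ (algebraMap Kx K₁ (t i))) ∧
      (∀ a : κ₁, Φ (MvPolynomial.C (a ⊗ₜ[κ] (1 : κ₂))) = j₁ (algebraMap κ₁ K₁ a)) ∧
      (∀ b : κ₂, Φ (MvPolynomial.C ((1 : κ₁) ⊗ₜ[κ] b)) = j₂ (algebraMap κ₂ K₂ b)) := by
  classical
  let t₁ : ι → K₁ := algebraMap Kx K₁ ∘ t
  let t₂ : ι → K₂ := algebraMap Kx K₂ ∘ t
  letI aDKx : Algebra (MvPolynomial ι κ) Kx :=
    (MvPolynomial.aeval t : MvPolynomial ι κ →ₐ[κ] Kx).toRingHom.toAlgebra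
  letI aDK₁ : Algebra (MvPolynomial ι κ) K₁ :=
    (MvPolynomial.aeval t₁ : MvPolynomial ι κ →ₐ[κ] K₁).toRingHom.toAlgebra
  letI aDK₂ : Algebra (MvPolynomial ι κ) K₂ :=
    (MvPolynomial.aeval t₂ : MvPolynomial ι κ →ₐ[κ] K₂).toRingHom.toAlgebra
  letI aD₁K₁ : Algebra (MvPolynomial ι κ₁) K₁ :=
    (MvPolynomial.aeval t₁ : MvPolynomial ι κ₁ →ₐ[κ₁] K₁).toRingHom.toAlgebra
  letI aD₂K₂ : Algebra (MvPolynomial ι κ₂) K₂ :=
    (MvPolynomial.aeval t₂ : MvPolynomial ι κ₂ →ₐ[κ₂] K₂).toRingHom.toAlgebra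
  haveI tw1 : IsScalarTower (MvPolynomial ι κ) Kx K₁ :=
    .of_algebraMap_eq fun p => MvPolynomial.aeval_algebraMap_apply K₁ t p
  haveI tw2 : IsScalarTower (MvPolynomial ι κ) Kx K₂ :=
    .of_algebraMap_eq fun p => MvPolynomial.aeval_algebraMap_apply K₂ t p
  haveI tw3 : IsScalarTower (MvPolynomial ι κ) (MvPolynomial ι κ₁) K₁ :=
    .of_algebraMap_eq fun p => (MvPolynomial.aeval_map_algebraMap κ₁ t₁ p).symm
  haveI tw4 : IsScalarTower (MvPolynomial ι κ) (MvPolynomial ι κ₂) K₂ :=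
    .of_algebraMap_eq fun p => (MvPolynomial.aeval_map_algebraMap κ₂ t₂ p).symm
  haveI fl1 : Module.Flat (MvPolynomial ι κ₁) K₁ :=
    flat_of_injective_of_field _ _ (algebraicIndependent_iff_injective_aeval.1 h₁)
  haveI fl2 : Module.Flat (MvPolynomial ι κ₂) K₂ :=
    flat_of_injective_of_field _ _ (algebraicIndependent_iff_injective_aeval.1 h₂)
  let θ : ((MvPolynomial ι κ₁) ⊗[MvPolynomial ι κ] (MvPolynomial ι κ₂)) →ₐ[MvPolynomial ι κ]
      (K₁ ⊗[MvPolynomial ι κ] K₂) :=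
    Algebra.TensorProduct.map (IsScalarTower.toAlgHom (MvPolynomial ι κ) (MvPolynomial ι κ₁) K₁)
      (IsScalarTower.toAlgHom (MvPolynomial ι κ) (MvPolynomial ι κ₂) K₂)
  have hθ : θ.toRingHom.Flat := by
    refine RingHom.Flat.tensorProductMap ?_ ?_
    · show (algebraMap (MvPolynomial ι κ₁) K₁).Flat
      exact RingHom.flat_algebraMap_iff.2 fl1
    · show (algebraMap (MvPolynomial ι κ₂) K₂).Flat
      exact RingHom.flat_algebraMap_iff.2 fl2
  haveI hpo : Algebra.IsPushout (MvPolynomial ι κ) (MvPolynomial ι κ₁) (MvPolynomial ι κ₂)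
      (MvPolynomial ι (κ₁ ⊗[κ] κ₂)) := isPushout_mvPolynomial_tensor κ κ₁ κ₂ ι
  let e : ((MvPolynomial ι κ₁) ⊗[MvPolynomial ι κ] (MvPolynomial ι κ₂)) ≃ₐ[MvPolynomial ι κ₁]
      MvPolynomial ι (κ₁ ⊗[κ] κ₂) :=
    Algebra.IsPushout.equiv (MvPolynomial ι κ) (MvPolynomial ι κ₁) (MvPolynomial ι κ₂)
      (MvPolynomial ι (κ₁ ⊗[κ] κ₂))
  -- a minimal prime of `K₁ ⊗[Kx] K₂`
  haveI : Nontrivial (K₁ ⊗[Kx] K₂) := inferInstance
  obtain ⟨⟨P, hP⟩⟩ := Ideal.nonempty_minimalPrimes (I := (⊥ : Ideal (K₁ ⊗[Kx] K₂))) bot_ne_top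
  haveI hPp : P.IsPrime := hP.1.1
  let j₁ : K₁ →+* P.ResidueField :=
    (algebraMap (K₁ ⊗[Kx] K₂) P.ResidueField).comp
      (Algebra.TensorProduct.includeLeftRingHom (R := Kx) (A := K₁) (B := K₂))
  let j₂ : K₂ →+* P.ResidueField :=
    (algebraMap (K₁ ⊗[Kx] K₂) P.ResidueField).comp
      (Algebra.TensorProduct.includeRight (R := Kx) (A := K₁) (B := K₂)).toRingHom
  let π : (K₁ ⊗[MvPolynomial ι κ] K₂) →+* (K₁ ⊗[Kx] K₂) :=
    (piMap (D := MvPolynomial ι κ) (Kx := Kx) (K₁ := K₁) (K₂ := K₂)).toRingHom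
  let Φ : MvPolynomial ι (κ₁ ⊗[κ] κ₂) →+* P.ResidueField :=
    ((algebraMap (K₁ ⊗[Kx] K₂) P.ResidueField).comp π).comp
      (θ.toRingHom.comp e.symm.toAlgHom.toRingHom)
  have hkerΦ : RingHom.ker Φ =
      (P.comap π).comap (θ.toRingHom.comp e.symm.toAlgHom.toRingHom) := by
    ext x
    rw [RingHom.mem_ker, Ideal.mem_comap, Ideal.mem_comap,
      ← Ideal.algebraMap_residueField_eq_zero (I := P)]
    rfl
  have halgD : ∀ a : Kx, IsAlgebraic (MvPolynomial ι κ) a := fun a =>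
    isAlgebraic_mvPolynomial_of_adjoin t a (ht.isAlgebraic.isAlgebraic a)
  have hinjD : Function.Injective (algebraMap (MvPolynomial ι κ) Kx) :=
    algebraicIndependent_iff_injective_aeval.1 ht.1
  refine ⟨P.ResidueField, inferInstance, j₁, j₂, Φ, ?_, ?_, ?_, ?_, ?_⟩
  · ext a
    show algebraMap (K₁ ⊗[Kx] K₂) P.ResidueField ((algebraMap Kx K₁ a) ⊗ₜ[Kx] (1 : K₂)) =
      algebraMap (K₁ ⊗[Kx] K₂) P.ResidueField ((1 : K₁) ⊗ₜ[Kx] (algebraMap Kx K₂ a))
    have h0 : (algebraMap Kx K₁ a) ⊗ₜ[Kx] (1 : K₂) = (1 : K₁) ⊗ₜ[Kx] (algebraMap Kx K₂ a) := by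
      rw [Algebra.algebraMap_eq_smul_one (A := K₁), Algebra.algebraMap_eq_smul_one (A := K₂),
        TensorProduct.smul_tmul]
    rw [h0]
  · rw [hkerΦ]
    refine comap_mem_minimalPrimes_of_flat _
      (RingHom.Flat.comp (.of_bijective e.symm.bijective) hθ) ?_
    exact comap_piMap_mem_minimalPrimes hinjD halgD hP
  · intro i
    have hX : (MvPolynomial.X i : MvPolynomial ι (κ₁ ⊗[κ] κ₂)) =
        algebraMap (MvPolynomial ι κ₁) (MvPolynomial ι (κ₁ ⊗[κ] κ₂)) (MvPolynomial.X i) := by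
      rw [MvPolynomial.algebraMap_def, MvPolynomial.map_X]
    have h1 : e.symm (MvPolynomial.X i) = (MvPolynomial.X i) ⊗ₜ 1 := by
      rw [hX]
      exact Algebra.IsPushout.equiv_symm_algebraMap_left _ _ _ _ _
    show algebraMap _ P.ResidueField (π (θ (e.symm (MvPolynomial.X i)))) = _
    rw [h1]
    show algebraMap _ P.ResidueField (π ((algebraMap (MvPolynomial ι κ₁) K₁ (MvPolynomial.X i)) ⊗ₜ
      (algebraMap (MvPolynomial ι κ₂) K₂ 1))) = _
    rw [map_one]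
    have h2 : algebraMap (MvPolynomial ι κ₁) K₁ (MvPolynomial.X i) = t₁ i :=
      MvPolynomial.aeval_X t₁ i
    rw [h2]
    rfl
  · intro a
    have hC : (MvPolynomial.C (a ⊗ₜ[κ] (1 : κ₂)) : MvPolynomial ι (κ₁ ⊗[κ] κ₂)) =
        algebraMap (MvPolynomial ι κ₁) (MvPolynomial ι (κ₁ ⊗[κ] κ₂)) (MvPolynomial.C a) := by
      rw [MvPolynomial.algebraMap_def, MvPolynomial.map_C, Algebra.TensorProduct.algebraMap_apply,
        Algebra.algebraMap_self, RingHom.id_apply]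
    have h1 : e.symm (MvPolynomial.C (a ⊗ₜ[κ] (1 : κ₂))) = (MvPolynomial.C a) ⊗ₜ 1 := by
      rw [hC]
      exact Algebra.IsPushout.equiv_symm_algebraMap_left _ _ _ _ _
    show algebraMap _ P.ResidueField (π (θ (e.symm (MvPolynomial.C (a ⊗ₜ[κ] (1 : κ₂)))))) = _
    rw [h1]
    show algebraMap _ P.ResidueField (π ((algebraMap (MvPolynomial ι κ₁) K₁ (MvPolynomial.C a)) ⊗ₜ
      (algebraMap (MvPolynomial ι κ₂) K₂ 1))) = _
    rw [map_one]
    have h2 : algebraMap (MvPolynomial ι κ₁) K₁ (MvPolynomial.C a) = algebraMap κ₁ K₁ a :=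
      MvPolynomial.aeval_C t₁ a
    rw [h2]
    rfl
  · intro b
    have hC : (MvPolynomial.C ((1 : κ₁) ⊗ₜ[κ] b) : MvPolynomial ι (κ₁ ⊗[κ] κ₂)) =
        algebraMap (MvPolynomial ι κ₂) (MvPolynomial ι (κ₁ ⊗[κ] κ₂)) (MvPolynomial.C b) := by
      rw [MvPolynomial.algebraMap_def, MvPolynomial.map_C]
      rfl
    have h1 : e.symm (MvPolynomial.C ((1 : κ₁) ⊗ₜ[κ] b)) = 1 ⊗ₜ (MvPolynomial.C b) := by
      rw [hC]
      exact Algebra.IsPushout.equiv_symm_algebraMap_right _ _ _ _ _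
    show algebraMap _ P.ResidueField (π (θ (e.symm (MvPolynomial.C ((1 : κ₁) ⊗ₜ[κ] b))))) = _
    rw [h1]
    show algebraMap _ P.ResidueField (π ((algebraMap (MvPolynomial ι κ₁) K₁ 1) ⊗ₜ
      (algebraMap (MvPolynomial ι κ₂) K₂ (MvPolynomial.C b)))) = _
    rw [map_one]
    have h2 : algebraMap (MvPolynomial ι κ₂) K₂ (MvPolynomial.C b) = algebraMap κ₂ K₂ b :=
      MvPolynomial.aeval_C t₂ b
    rw [h2]
    rfl

/-- **The compositum lemma.** Given `Kx / κ` with transcendence basis `t`, extensions `κᵢ / κ` and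
`Kᵢ ⊇ Kx, κᵢ` in which `t` stays algebraically independent over `κᵢ`, there is a field `Ω` with
embeddings of `K₁` and `K₂` agreeing on `Kx` in which `t` is algebraically independent over the
compositum of `κ₁` and `κ₂`. -/
theorem exists_compositum (ht : IsTranscendenceBasis κ t)
    (h₁ : AlgebraicIndependent κ₁ (algebraMap Kx K₁ ∘ t))
    (h₂ : AlgebraicIndependent κ₂ (algebraMap Kx K₂ ∘ t)) :
    ∃ (Ω : Type u) (_ : Field Ω) (j₁ : K₁ →+* Ω) (j₂ : K₂ →+* Ω),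
      j₁.comp (algebraMap Kx K₁) = j₂.comp (algebraMap Kx K₂) ∧
      AlgebraicIndependent
        (Subfield.closure (Set.range (j₁.comp (algebraMap κ₁ K₁)) ∪
          Set.range (j₂.comp (algebraMap κ₂ K₂))))
        (fun i => j₁ (algebraMap Kx K₁ (t i))) := by
  classical
  obtain ⟨Ω, hΩ, j₁, j₂, Φ, hcompat, hker, hX, hC₁, hC₂⟩ := exists_compositum_aux t ht h₁ h₂
  refine ⟨Ω, hΩ, j₁, j₂, hcompat, ?_⟩
  set μ : (κ₁ ⊗[κ] κ₂) →+* Ω := Φ.comp MvPolynomial.C with hμ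
  set tΩ : ι → Ω := fun i => j₁ (algebraMap Kx K₁ (t i)) with htΩ
  have hΦeq : ∀ q, Φ q = MvPolynomial.eval₂ μ tΩ q := by
    intro q
    have : Φ = MvPolynomial.eval₂Hom μ tΩ := by
      apply MvPolynomial.ringHom_ext
      · intro c
        simp [hμ]
      · intro i
        simp [htΩ, hX]
    rw [this]
    rfl
  have hfrac : ∀ x ∈ Subfield.closure (Set.range (j₁.comp (algebraMap κ₁ K₁)) ∪
      Set.range (j₂.comp (algebraMap κ₂ K₂))),
      ∃ a b : κ₁ ⊗[κ] κ₂, μ b ≠ 0 ∧ x * μ b = μ a := by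
    intro x hx
    induction hx using Subfield.closure_induction with
    | mem x hx =>
      rcases hx with ⟨a, rfl⟩ | ⟨b, rfl⟩
      · refine ⟨a ⊗ₜ 1, 1, by simp, ?_⟩
        rw [map_one, mul_one]
        exact (hC₁ a).symm
      · refine ⟨1 ⊗ₜ b, 1, by simp, ?_⟩
        rw [map_one, mul_one]
        exact (hC₂ b).symm
    | one => exact ⟨1, 1, by simp, by simp⟩
    | add x y _ _ hx hy =>
      obtain ⟨a, b, hb, h⟩ := hx
      obtain ⟨c, d, hd, h'⟩ := hy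
      refine ⟨a * d + c * b, b * d, ?_, ?_⟩
      · rw [map_mul]
        exact mul_ne_zero hb hd
      · rw [map_mul, map_add, map_mul, map_mul, ← h, ← h']
        ring
    | neg x _ hx =>
      obtain ⟨a, b, hb, h⟩ := hx
      exact ⟨-a, b, hb, by rw [map_neg, ← h]; ring⟩
    | inv x _ hx =>
      obtain ⟨a, b, hb, h⟩ := hx
      by_cases ha : μ a = 0
      · have hx0 : x = 0 := by
          rw [ha] at h
          exact (mul_eq_zero.1 h).resolve_right hb
        exact ⟨0, 1, by simp, by simp [hx0]⟩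
      · refine ⟨b, a, ha, ?_⟩
        have hx0 : x ≠ 0 := by
          rintro rfl
          rw [zero_mul] at h
          exact ha h.symm
        rw [← h]
        field_simp
    | mul x y _ _ hx hy =>
      obtain ⟨a, b, hb, h⟩ := hx
      obtain ⟨c, d, hd, h'⟩ := hy
      refine ⟨a * c, b * d, ?_, ?_⟩
      · rw [map_mul]
        exact mul_ne_zero hb hd
      · rw [map_mul, map_mul, ← h, ← h']
        ring
  rw [algebraicIndependent_iff]
  intro p hp
  choose A B hB hAB using fun m : ι →₀ ℕ => hfrac (MvPolynomial.coeff m p).1 (p.coeff m).2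
  set s := p.support with hs
  set b : κ₁ ⊗[κ] κ₂ := ∏ m ∈ s, B m with hb
  have hμb : μ b ≠ 0 := by
    rw [hb, map_prod]
    exact Finset.prod_ne_zero_iff.2 fun m _ => hB m
  let A' : (ι →₀ ℕ) → κ₁ ⊗[κ] κ₂ := fun m => A m * ∏ m' ∈ s.erase m, B m'
  have hA' : ∀ m ∈ s, (MvPolynomial.coeff m p).1 * μ b = μ (A' m) := by
    intro m hm
    have h1 : b = B m * ∏ m' ∈ s.erase m, B m' := (Finset.mul_prod_erase s B hm).symm
    rw [h1, map_mul, ← mul_assoc, hAB m, ← map_mul]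
  set Q : MvPolynomial ι (κ₁ ⊗[κ] κ₂) := ∑ m ∈ s, MvPolynomial.monomial m (A' m) with hQ
  have hpsum : MvPolynomial.aeval tΩ p =
      ∑ m ∈ s, (MvPolynomial.coeff m p).1 * m.prod (fun i k => tΩ i ^ k) := by
    conv_lhs => rw [← MvPolynomial.support_sum_monomial_coeff p]
    rw [map_sum]
    refine Finset.sum_congr rfl fun m _ => ?_
    rw [MvPolynomial.aeval_monomial]
    rfl
  have hΦQ : Φ Q = ∑ m ∈ s, μ (A' m) * m.prod (fun i k => tΩ i ^ k) := by
    rw [hΦeq, hQ, MvPolynomial.eval₂_sum]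
    refine Finset.sum_congr rfl fun m _ => ?_
    rw [MvPolynomial.eval₂_monomial]
  have hΦQ0 : Φ Q = 0 := by
    rw [hΦQ]
    have : ∑ m ∈ s, μ (A' m) * m.prod (fun i k => tΩ i ^ k) =
        μ b * ∑ m ∈ s, (MvPolynomial.coeff m p).1 * m.prod (fun i k => tΩ i ^ k) := by
      rw [Finset.mul_sum]
      refine Finset.sum_congr rfl fun m hm => ?_
      rw [← hA' m hm]
      ring
    rw [this, ← hpsum, hp, mul_zero]
  have hcoeffQ : ∀ m ∈ s, Q.coeff m = A' m := by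
    intro m hm
    rw [hQ, MvPolynomial.coeff_sum]
    simp only [MvPolynomial.coeff_monomial]
    rw [Finset.sum_ite_eq' s m]
    simp [hm]
  have hall : ∀ m, p.coeff m = 0 := by
    intro m
    by_cases hm : m ∈ s
    · have h1 : MvPolynomial.C (Q.coeff m) ∈ RingHom.ker Φ :=
        C_coeff_mem_of_mem_minimalPrimes hker (RingHom.mem_ker.2 hΦQ0) m
      have h2 : μ (A' m) = 0 := by
        rw [← hcoeffQ m hm]
        exact h1
      have h3 := hA' m hm
      rw [h2] at h3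
      have h4 : (MvPolynomial.coeff m p).1 = 0 := (mul_eq_zero.1 h3).resolve_right hμb
      exact Subtype.ext h4
    · exact MvPolynomial.notMem_support_iff.1 hm
  ext m
  rw [hall m]
  rfl

end

end Groth.Agent.Lib.Helper18.PairPt
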