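import Mathlib
import Groth.Agent.Lib.Helper18.PairPt.Compositum

/-!
# The compositum lemma with explicit embeddings and subfields
-/

set_option autoImplicit false
set_option linter.style.haveILetI false
universe u

namespace Groth.Agent.Lib.Helper18.PairPt

theorem closure_range_comp_subtype {K Ω : Type*} [Field K] [Field Ω] (κ : Subfield K)
    (j : K →+* Ω) :
    Subfield.closure (Set.range (j.comp (algebraMap κ K))) = κ.map j := by
  have : Set.range (j.comp (algebraMap κ K)) = ((κ.map j : Subfield Ω) : Set Ω) := by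
    ext z
    constructor
    · rintro ⟨c, rfl⟩
      exact ⟨c.1, c.2, rfl⟩
    · rintro ⟨c, hc, rfl⟩
      exact ⟨⟨c, hc⟩, rfl⟩
  rw [this, Subfield.closure_eq]

theorem exists_compositum' {Kx K₁ K₂ : Type u} [Field Kx] [Field K₁] [Field K₂]
    (φ₁ : Kx →+* K₁) (φ₂ : Kx →+* K₂) (κ : Subfield Kx) (κ₁ : Subfield K₁) (κ₂ : Subfield K₂)
    (hκ₁ : ∀ c ∈ κ, φ₁ c ∈ κ₁) (hκ₂ : ∀ c ∈ κ, φ₂ c ∈ κ₂) {ι : Type u} (t : ι → Kx)
    (ht : IsTranscendenceBasis κ t)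
    (h₁ : AlgebraicIndependent κ₁ (φ₁ ∘ t)) (h₂ : AlgebraicIndependent κ₂ (φ₂ ∘ t)) :
    ∃ (Ω : Type u) (_ : Field Ω) (j₁ : K₁ →+* Ω) (j₂ : K₂ →+* Ω),
      j₁.comp φ₁ = j₂.comp φ₂ ∧
      AlgebraicIndependent (κ₁.map j₁ ⊔ κ₂.map j₂ : Subfield Ω) (fun i => j₁ (φ₁ (t i))) := by
  letI : Algebra Kx K₁ := φ₁.toAlgebra
  letI : Algebra Kx K₂ := φ₂.toAlgebra
  letI : Algebra κ κ₁ := (φ₁.restrict κ κ₁ hκ₁).toAlgebra
  letI : Algebra κ κ₂ := (φ₂.restrict κ κ₂ hκ₂).toAlgebra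
  letI : Algebra κ K₁ := (φ₁.comp κ.subtype).toAlgebra
  letI : Algebra κ K₂ := (φ₂.comp κ.subtype).toAlgebra
  haveI := IsScalarTower.of_algebraMap_eq (R := κ) (S := Kx) (A := K₁) (fun _ => rfl)
  haveI := IsScalarTower.of_algebraMap_eq (R := κ) (S := Kx) (A := K₂) (fun _ => rfl)
  haveI := IsScalarTower.of_algebraMap_eq (R := κ) (S := κ₁) (A := K₁) (fun _ => rfl)
  haveI := IsScalarTower.of_algebraMap_eq (R := κ) (S := κ₂) (A := K₂) (fun _ => rfl)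
  obtain ⟨Ω, hΩ, j₁, j₂, hj, hind⟩ := exists_compositum (κ := κ) (Kx := Kx) (κ₁ := κ₁) (κ₂ := κ₂)
    (K₁ := K₁) (K₂ := K₂) t ht h₁ h₂
  refine ⟨Ω, hΩ, j₁, j₂, hj, ?_⟩
  have hΛ : Subfield.closure (Set.range (j₁.comp (algebraMap κ₁ K₁)) ∪
      Set.range (j₂.comp (algebraMap κ₂ K₂))) = κ₁.map j₁ ⊔ κ₂.map j₂ := by
    rw [Subfield.closure_union, closure_range_comp_subtype, closure_range_comp_subtype]
  exact hΛ ▸ hind

end Groth.Agent.Lib.Helper18.PairPt
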