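import Mathlib

/-! # Extending an embedding into an algebraically closed field of infinite transcendence degree -/

set_option autoImplicit false
set_option linter.style.haveILetI false
set_option linter.unusedSectionVars false

universe u

namespace Groth.Agent.Lib.Helper18.PairPt.Embed

open IntermediateField

/-- Let `L/K` and `F/L` be field extensions of finite transcendence degree, `Ω` an algebraically
closed extension of `K` containing infinitely many algebraically independent elements. Every
`K`-embedding of `L` into `Ω` extends to `F`. -/
theorem exists_ringHom_extending {K L F Ω : Type u} [Field K] [Field L] [Field F] [Field Ω]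
    [IsAlgClosed Ω] [Algebra K L] [Algebra L F] [Algebra K Ω] [FinTrdeg K L] [FinTrdeg L F]
    (t : ℕ → Ω) (ht : AlgebraicIndependent K t) (ι : L →ₐ[K] Ω) :
    ∃ j : F →+* Ω, j.comp (algebraMap L F) = ι.toRingHom := by
  letI : Algebra L Ω := ι.toRingHom.toAlgebra
  haveI : IsScalarTower K L Ω := IsScalarTower.of_algebraMap_eq (fun c => (ι.commutes c).symm)
  -- `Ω` has infinite transcendence degree over `L`
  have hinf : ¬ FinTrdeg L Ω := by
    intro h
    haveI := h
    haveI : FinTrdeg K Ω := FinTrdeg.trans K L Ω
    haveI : Finite ℕ := finite_of_algebraicIndependent ht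
    exact not_finite ℕ
  obtain ⟨s, hs⟩ := exists_finset_isTranscendenceBasis L F
  obtain ⟨B, hB⟩ := exists_isTranscendenceBasis L Ω
  haveI : Infinite ↥B := by
    by_contra hfin
    rw [not_infinite_iff_finite] at hfin
    haveI := hfin
    exact hinf (FinTrdeg.of_isTranscendenceBasis hB)
  -- an injection of the basis of `F/L` into the basis of `Ω/L`
  let g : ↥s ↪ ↥B := (Fintype.equivFin ↥s).toEmbedding.trans
    ((Fin.valEmbedding).trans (Infinite.natEmbedding ↥B))
  have hτ : AlgebraicIndependent L (fun i : ↥s => ((g i : ↥B) : Ω)) :=
    hB.1.comp g g.injective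
  -- the rational function field maps to both
  let E : IntermediateField L F := IntermediateField.adjoin L (Set.range ((↑) : ↥s → F))
  let φ : E →ₐ[L] Ω :=
    (IsFractionRing.liftAlgHom (K := FractionRing (MvPolynomial ↥s L))
      (algebraicIndependent_iff_injective_aeval.2 hτ)).comp hs.1.reprField
  letI : Algebra E Ω := φ.toRingHom.toAlgebra
  haveI : Algebra.IsAlgebraic E F := hs.isAlgebraic_field
  let j : F →ₐ[E] Ω := IsAlgClosed.lift
  refine ⟨j.toRingHom, ?_⟩
  ext c
  show j (algebraMap L F c) = ι c
  have h1 : algebraMap L F c = algebraMap E F (algebraMap L E c) := rfl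
  rw [h1, j.commutes]
  show φ (algebraMap L E c) = ι c
  rw [φ.commutes]
  rfl

end Groth.Agent.Lib.Helper18.PairPt.Embed
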