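import Mathlib
import Groth.Agent.Lib.Helper18.PairPt.SpecPt

/-!
# Conjugacy of geometric points under a group acting transitively on fibres
-/

set_option autoImplicit false
set_option linter.style.haveILetI false
universe u
open AlgebraicGeometry CategoryTheory Limits IsLocalRing

namespace Groth.Agent.Lib.Helper18.PairPt

/-- Two embeddings of a normal extension into a field which agree on the base differ by an
automorphism. -/
theorem exists_aut_of_normal {F E Ω : Type*} [Field F] [Field E] [Field Ω] [Algebra F E]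
    [Normal F E] (φ₁ φ₂ : E →+* Ω)
    (h : φ₁.comp (algebraMap F E) = φ₂.comp (algebraMap F E)) :
    ∃ σ : E ≃ₐ[F] E, ∀ e, φ₂ e = φ₁ (σ e) := by
  letI : Algebra E Ω := φ₁.toAlgebra
  letI : Algebra F Ω := (φ₁.comp (algebraMap F E)).toAlgebra
  haveI : IsScalarTower F E Ω := IsScalarTower.of_algebraMap_eq (fun _ => rfl)
  let ψ : E →ₐ[F] Ω := { φ₂ with commutes' := fun r => (RingHom.congr_fun h r).symm }
  refine ⟨Normal.algHomEquivAut F Ω E ψ, fun e => ?_⟩
  have h1 := (Normal.algHomEquivAut F Ω E).left_inv ψ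
  have h2 := DFunLike.congr_fun h1 e
  exact h2.symm

variable {Ω : Type u} [Field Ω] {Y : Scheme.{u}}

theorem SpecMap_fromSpec_injective {y : Y} (a b : Y.residueField y →+* Ω)
    (h : Spec.map (CommRingCat.ofHom a) ≫ Y.fromSpecResidueField y =
      Spec.map (CommRingCat.ofHom b) ≫ Y.fromSpecResidueField y) : a = b := by
  have h1 := (Scheme.SpecToEquivOfField Ω Y).symm.injective
    (a₁ := ⟨y, CommRingCat.ofHom a⟩) (a₂ := ⟨y, CommRingCat.ofHom b⟩) h
  have h2 := eq_of_heq (Sigma.mk.inj_iff.1 h1).2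
  exact congrArg CommRingCat.Hom.hom h2

section main

variable {X S : Scheme.{u}} (q : X ⟶ S) {G : Type u} [Group G] (ρ : G →* Aut X)

theorem conj_same_point
    (h2 : ∀ x : X, @Normal (S.residueField (q x)) (X.residueField x) _ _
      (q.residueFieldMap x).hom.toAlgebra)
    (h3 : ∀ (x : X) (σ : X.residueField x ≅ X.residueField x),
      q.residueFieldMap x ≫ σ.hom = q.residueFieldMap x →
      ∃ g : G, X.fromSpecResidueField x ≫ (ρ g).hom = Spec.map σ.hom ≫ X.fromSpecResidueField x)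
    (x : X) (φ₁ φ₂ : X.residueField x →+* Ω)
    (h : (Spec.map (CommRingCat.ofHom φ₁) ≫ X.fromSpecResidueField x) ≫ q =
      (Spec.map (CommRingCat.ofHom φ₂) ≫ X.fromSpecResidueField x) ≫ q) :
    ∃ g : G, (Spec.map (CommRingCat.ofHom φ₁) ≫ X.fromSpecResidueField x) ≫ (ρ g).hom =
      Spec.map (CommRingCat.ofHom φ₂) ≫ X.fromSpecResidueField x := by
  letI := (q.residueFieldMap x).hom.toAlgebra
  haveI := h2 x
  have hι : ∀ φ : X.residueField x →+* Ω,
      (Spec.map (CommRingCat.ofHom φ) ≫ X.fromSpecResidueField x) ≫ q =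
      Spec.map (CommRingCat.ofHom (φ.comp (q.residueFieldMap x).hom)) ≫
        S.fromSpecResidueField (q x) := by
    intro φ
    rw [Category.assoc, ← Scheme.Hom.SpecMap_residueFieldMap_fromSpecResidueField,
      ← Category.assoc, ← Spec.map_comp]
    rfl
  rw [hι, hι] at h
  have h' := SpecMap_fromSpec_injective _ _ h
  obtain ⟨σ, hσ⟩ := exists_aut_of_normal (F := S.residueField (q x)) φ₁ φ₂ h'
  let σ' : X.residueField x ≅ X.residueField x :=
    (σ.toRingEquiv.toCommRingCatIso)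
  have hσ' : q.residueFieldMap x ≫ σ'.hom = q.residueFieldMap x := by
    ext c
    exact σ.commutes c
  obtain ⟨g, hg⟩ := h3 x σ' hσ'
  refine ⟨g, ?_⟩
  rw [Category.assoc, hg, ← Category.assoc, ← Spec.map_comp]
  congr 2
  ext e
  exact (hσ e).symm

theorem conj_points (hρ : ∀ g : G, (ρ g).hom ≫ q = q)
    (h1 : ∀ x y : X, q x = q y → ∃ g : G, (ρ g).hom x = y)
    (h2 : ∀ x : X, @Normal (S.residueField (q x)) (X.residueField x) _ _
      (q.residueFieldMap x).hom.toAlgebra)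
    (h3 : ∀ (x : X) (σ : X.residueField x ≅ X.residueField x),
      q.residueFieldMap x ≫ σ.hom = q.residueFieldMap x →
      ∃ g : G, X.fromSpecResidueField x ≫ (ρ g).hom = Spec.map σ.hom ≫ X.fromSpecResidueField x)
    (τ₁ τ₂ : Spec (CommRingCat.of Ω) ⟶ X) (hτ : τ₁ ≫ q = τ₂ ≫ q) :
    ∃ g : G, τ₁ ≫ (ρ g).hom = τ₂ := by
  have hq : q (spt τ₁) = q (spt τ₂) := by
    show spt (τ₁ ≫ q) = spt (τ₂ ≫ q)
    rw [hτ]
  obtain ⟨g₀, hg₀⟩ := h1 _ _ hq
  have hspt : spt (τ₁ ≫ (ρ g₀).hom) = spt τ₂ := hg₀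
  obtain ⟨φ₁, hφ₁⟩ := exists_hom_of_spt_eq (τ₁ ≫ (ρ g₀).hom) (spt τ₂) hspt
  obtain ⟨φ₂, hφ₂⟩ := exists_hom_of_spt_eq τ₂ (spt τ₂) rfl
  have h : (Spec.map (CommRingCat.ofHom φ₁) ≫ X.fromSpecResidueField (spt τ₂)) ≫ q =
      (Spec.map (CommRingCat.ofHom φ₂) ≫ X.fromSpecResidueField (spt τ₂)) ≫ q := by
    rw [← hφ₁, ← hφ₂, Category.assoc, hρ, hτ]
  obtain ⟨g, hg⟩ := conj_same_point q ρ h2 h3 (spt τ₂) φ₁ φ₂ h
  refine ⟨g * g₀, ?_⟩
  rw [map_mul, Aut.Aut_mul_def, Iso.trans_hom, ← Category.assoc, hφ₁, hg, ← hφ₂]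

end main

end Groth.Agent.Lib.Helper18.PairPt
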