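import Mathlib
import Groth.Agent.Lib.Helper18.PairPt.SpecPt
import Groth.Agent.Lib.Helper18.GalFibre

/-!
# Consequences of transitivity on geometric points
-/

set_option autoImplicit false
set_option linter.style.haveILetI false
universe u
open AlgebraicGeometry CategoryTheory Limits IsLocalRing

namespace Groth.Agent.Lib.Helper18.PairPt

section

variable {X S : Scheme.{u}} (q : X ⟶ S) {G : Type u} [Group G] (ρ : G →* Aut X)

/-- A pair of geometric points over a pair of points with the same image. -/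
theorem exists_geom_points {Y : Scheme.{u}} (r : Y ⟶ S) (x : X) (y : Y) (h : q x = r y) :
    ∃ (Ω : Type u) (_ : Field Ω) (_ : IsAlgClosed Ω) (τ₁ : Spec (CommRingCat.of Ω) ⟶ X)
      (τ₂ : Spec (CommRingCat.of Ω) ⟶ Y), spt τ₁ = x ∧ spt τ₂ = y ∧ τ₁ ≫ q = τ₂ ≫ r := by
  obtain ⟨z, hz₁, hz₂⟩ := Scheme.Pullback.exists_preimage_pullback (f := q) (g := r) x y h
  let Ω := AlgebraicClosure ((pullback q r).residueField z)
  let τ : Spec (CommRingCat.of Ω) ⟶ pullback q r :=
    Spec.map (CommRingCat.ofHom (algebraMap ((pullback q r).residueField z) Ω)) ≫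
      (pullback q r).fromSpecResidueField z
  have hτ : spt τ = z := spt_eq_of_eq_SpecMap _ _ rfl
  refine ⟨Ω, inferInstance, inferInstance, τ ≫ pullback.fst q r, τ ≫ pullback.snd q r, ?_, ?_, ?_⟩
  · show pullback.fst q r (spt τ) = x
    rw [hτ, hz₁]
  · show pullback.snd q r (spt τ) = y
    rw [hτ, hz₂]
  · exact (Category.assoc _ _ _).trans
      ((congrArg (τ ≫ ·) pullback.condition).trans (Category.assoc _ _ _).symm)

variable (htrans : ∀ (Ω : Type u) [Field Ω] [IsAlgClosed Ω]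
    (τ₁ τ₂ : Spec (CommRingCat.of Ω) ⟶ X), τ₁ ≫ q = τ₂ ≫ q → ∃ g : G, τ₁ ≫ (ρ g).hom = τ₂)

include htrans in
/-- Transitivity on geometric points gives transitivity on the points of the fibres. -/
theorem exists_map_eq_of_geomTransitive (x y : X) (h : q x = q y) :
    ∃ g : G, (ρ g).hom x = y := by
  obtain ⟨Ω, _, _, τ₁, τ₂, h₁, h₂, hτ⟩ := exists_geom_points q q x y h
  obtain ⟨g, hg⟩ := htrans Ω τ₁ τ₂ hτ
  refine ⟨g, ?_⟩
  rw [← h₁, ← h₂, ← hg]
  rfl

/-- The homeomorphism given by a group element. -/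
noncomputable def actHomeo' (g : G) : X ≃ₜ X := Scheme.homeoOfIso (ρ g)

theorem actHomeo'_apply (g : G) (x : X) : actHomeo' ρ g x = (ρ g).hom x := rfl

include htrans in
theorem components_of_geomTransitive [IrreducibleSpace S] [Surjective q]
    (hcl : IsClosedMap q) (hρ : ∀ g : G, (ρ g).hom ≫ q = q) :
    (∀ T ∈ irreducibleComponents X, Set.image (fun x => q x) T = Set.univ) ∧
      ∀ T₁ ∈ irreducibleComponents X, ∀ T₂ ∈ irreducibleComponents X,
        ∃ g : G, Set.image (fun x => (ρ g).hom x) T₁ = T₂ := by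
  -- a component through a point over the generic point
  obtain ⟨x₀, hx₀⟩ := q.surjective (genericPoint S)
  set T₀ := irreducibleComponent x₀ with hT₀
  have hT₀m : T₀ ∈ irreducibleComponents X := irreducibleComponent_mem_irreducibleComponents x₀
  have hT₀cl : IsClosed T₀ := isClosed_irreducibleComponent
  have hqT₀ : Set.image (fun x => q x) T₀ = Set.univ := by
    have h1 : IsClosed (q '' T₀) := hcl _ hT₀cl
    have h2 : genericPoint S ∈ q '' T₀ := ⟨x₀, mem_irreducibleComponent, hx₀⟩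
    have h3 : closure {genericPoint S} ⊆ q '' T₀ := h1.closure_subset_iff.2 (by simpa using h2)
    rw [(genericPoint_spec S).def] at h3
    exact Set.eq_univ_of_univ_subset h3
  -- every component is a translate of `T₀`
  have key : ∀ T ∈ irreducibleComponents X, ∃ g : G, Set.image (fun x => (ρ g).hom x) T₀ = T := by
    intro T hT
    have hTcl : IsClosed T := isClosed_of_mem_irreducibleComponents T hT
    obtain ⟨ξ, hξ⟩ := QuasiSober.sober hT.1 hTcl
    have : q ξ ∈ Set.image (fun x => q x) T₀ := by rw [hqT₀]; trivial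
    obtain ⟨x₁, hx₁T, hx₁⟩ := this
    obtain ⟨g, hg⟩ := exists_map_eq_of_geomTransitive q ρ htrans x₁ ξ hx₁
    refine ⟨g, ?_⟩
    have hT' : (actHomeo' ρ g) '' T₀ ∈ irreducibleComponents X :=
      Groth.Agent.Lib.Helper18.GalFibre.image_mem_irreducibleComponents (actHomeo' ρ g) hT₀m
    have hT'cl : IsClosed ((actHomeo' ρ g) '' T₀) :=
      isClosed_of_mem_irreducibleComponents _ hT'
    have hξT' : ξ ∈ (actHomeo' ρ g) '' T₀ := ⟨x₁, hx₁T, hg⟩
    have hsub : T ⊆ (actHomeo' ρ g) '' T₀ := by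
      rw [← hξ.def]
      exact hT'cl.closure_subset_iff.2 (by simpa using hξT')
    have hsub' : (actHomeo' ρ g) '' T₀ ⊆ T := hT.2 hT'.1 hsub
    exact Set.Subset.antisymm hsub' hsub
  constructor
  · intro T hT
    obtain ⟨g, rfl⟩ := key T hT
    rw [Set.image_image, ← hqT₀]
    congr 1
    ext x
    have := congrArg (fun φ : X ⟶ S => φ x) (hρ g)
    simpa using this
  · intro T₁ hT₁ T₂ hT₂
    obtain ⟨g₁, rfl⟩ := key T₁ hT₁
    obtain ⟨g₂, rfl⟩ := key T₂ hT₂
    refine ⟨g₂ * g₁⁻¹, ?_⟩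
    rw [Set.image_image]
    congr 1
    ext x
    have h1 : (ρ (g₂ * g₁⁻¹)).hom = (ρ g₁⁻¹).hom ≫ (ρ g₂).hom := by
      rw [map_mul, Aut.Aut_mul_def, Iso.trans_hom]
    have h2 : (ρ g₁).hom ≫ (ρ g₁⁻¹).hom = 𝟙 X := by
      rw [map_inv, Aut.Aut_inv_def, Iso.symm_hom, Iso.hom_inv_id]
    rw [h1, ← Scheme.Hom.comp_apply, ← Category.assoc, h2, Category.id_comp]

end

end Groth.Agent.Lib.Helper18.PairPt
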