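import Mathlib
import Groth.Agent.Lib.Helper18.PairPt.SpecPt
import Groth.Agent.Lib.Helper23.SplitFinite

/-!
# The graphs of the translates cover the fibre product
-/

set_option autoImplicit false
set_option linter.style.haveILetI false
universe u
open AlgebraicGeometry CategoryTheory Limits IsLocalRing

namespace Groth.Agent.Lib.Helper18.PairPt

/-- A finite coproduct (indexed by a type in any universe) of finite morphisms is finite. -/
theorem isFinite_of_forall_ι {Z : Scheme.{u}} {G : Type u} [Finite G] (Y : G → Scheme.{u})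
    (υ : (∐ Y) ⟶ Z) (h : ∀ σ, IsFinite (Sigma.ι Y σ ≫ υ)) : IsFinite υ := by
  obtain ⟨n, ⟨e⟩⟩ := Finite.exists_equiv_fin G
  have h1 : IsFinite (Sigma.desc (fun i : Fin n => Sigma.ι Y (e.symm i) ≫ υ)) :=
    Groth.Agent.Lib.Helper23.SplitFinite.isFinite_sigmaDesc (Fin n) (fun i => Y (e.symm i))
      (fun i => Sigma.ι Y (e.symm i) ≫ υ) (fun i => h _)
  have h2 : (Sigma.reindex e.symm Y).hom ≫ υ =
      Sigma.desc (fun i : Fin n => Sigma.ι Y (e.symm i) ≫ υ) := by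
    refine Sigma.hom_ext _ _ fun a => ?_
    rw [← Category.assoc, Sigma.ι_reindex_hom, Sigma.ι_desc]
  have h3 : υ = (Sigma.reindex e.symm Y).inv ≫
      Sigma.desc (fun i : Fin n => Sigma.ι Y (e.symm i) ≫ υ) := (Iso.eq_inv_comp _).2 h2
  rw [h3]
  exact (MorphismProperty.cancel_left_of_respectsIso @IsFinite _ _).2 h1

section

variable {X S Y : Scheme.{u}} (q : X ⟶ S) {G : Type u} [Group G] (ρ : G →* Aut X)
  (htrans : ∀ (Ω : Type u) [Field Ω] [IsAlgClosed Ω]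
    (τ₁ τ₂ : Spec (CommRingCat.of Ω) ⟶ X), τ₁ ≫ q = τ₂ ≫ q → ∃ g : G, τ₁ ≫ (ρ g).hom = τ₂)
  (r : Y ⟶ X) (υ : (∐ fun _ : G => Y) ⟶ pullback (r ≫ q) q)
  (hυ₁ : ∀ σ : G, Sigma.ι (fun _ : G => Y) σ ≫ υ ≫ pullback.fst (r ≫ q) q = 𝟙 Y)
  (hυ₂ : ∀ σ : G, Sigma.ι (fun _ : G => Y) σ ≫ υ ≫ pullback.snd (r ≫ q) q = r ≫ (ρ σ).hom)

include hυ₁ in
theorem isFinite_upsilon [IsFinite q] [Finite G] : IsFinite υ := by
  apply isFinite_of_forall_ι
  intro σ
  haveI : IsFinite ((Sigma.ι (fun _ : G => Y) σ ≫ υ) ≫ pullback.fst (r ≫ q) q) := by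
    rw [Category.assoc, hυ₁]
    infer_instance
  exact IsFinite.of_comp _ (pullback.fst (r ≫ q) q)

include htrans hυ₁ hυ₂ in
theorem surjective_upsilon : Surjective υ := by
  constructor
  intro w
  let Ω := AlgebraicClosure ((pullback (r ≫ q) q).residueField w)
  obtain ⟨τ, hτdef⟩ : ∃ τ : Spec (CommRingCat.of Ω) ⟶ pullback (r ≫ q) q,
      τ = Spec.map (CommRingCat.ofHom (algebraMap ((pullback (r ≫ q) q).residueField w) Ω)) ≫
      (pullback (r ≫ q) q).fromSpecResidueField w := ⟨_, rfl⟩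
  have hτ : spt τ = w := spt_eq_of_eq_SpecMap _ _ hτdef
  have hc : ((τ ≫ pullback.fst (r ≫ q) q) ≫ r) ≫ q = (τ ≫ pullback.snd (r ≫ q) q) ≫ q := by
    rw [Category.assoc, Category.assoc, Category.assoc, pullback.condition]
  obtain ⟨g, hg⟩ := htrans Ω _ _ hc
  have key : (τ ≫ pullback.fst (r ≫ q) q) ≫ Sigma.ι (fun _ : G => Y) g ≫ υ = τ := by
    simp only [Category.assoc] at hg
    apply pullback.hom_ext
    · simp only [Category.assoc]
      rw [hυ₁, Category.comp_id]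
    · simp only [Category.assoc]
      rw [hυ₂]
      exact hg
  refine ⟨(Sigma.ι (fun _ : G => Y) g) (spt (τ ≫ pullback.fst (r ≫ q) q)), ?_⟩
  have h1 : υ ((Sigma.ι (fun _ : G => Y) g) (spt (τ ≫ pullback.fst (r ≫ q) q))) =
      spt ((τ ≫ pullback.fst (r ≫ q) q) ≫ Sigma.ι (fun _ : G => Y) g ≫ υ) := rfl
  rw [h1, key]
  exact hτ

end

end Groth.Agent.Lib.Helper18.PairPt
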