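import Mathlib
import Groth.Prelude.Def_SGA1
import Groth.Agent.Lib.Helper18.PairPt.GeomTrans3

/-!
# Sections of a qfh sheaf over a quotient by a geometrically transitive finite group
-/

set_option autoImplicit false
set_option linter.style.haveILetI false
universe u w
open AlgebraicGeometry CategoryTheory Limits IsLocalRing Opposite

namespace Groth.Agent.Lib.Helper18.PairPt

/-- Universally closed surjective morphisms are universally submersive. -/
theorem univSubmersive_of_universallyClosed_surjective {A B : Scheme.{u}} (g : A ⟶ B)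
    [UniversallyClosed g] [Surjective g] : SGA1.UnivSubmersive g := by
  intro A' B' i₁ i₂ g' h
  haveI : UniversallyClosed g' := MorphismProperty.of_isPullback h.flip inferInstance
  haveI : Surjective g' := MorphismProperty.of_isPullback h.flip inferInstance
  exact IsClosedMap.isQuotientMap g'.isClosedMap g'.continuous g'.surjective

/-- A finite family of finite morphisms which is jointly surjective is universally submersive. -/
theorem univSubmersive_sigmaDesc {Z : Scheme.{u}} {G : Type u} [Finite G] (Y : G → Scheme.{u})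
    (c : ∀ σ, Y σ ⟶ Z) [∀ σ, IsFinite (c σ)] (hsurj : ∀ z : Z, ∃ σ, z ∈ Set.range (c σ)) :
    SGA1.UnivSubmersive (Sigma.desc c) := by
  haveI : IsFinite (Sigma.desc c) := by
    apply isFinite_of_forall_ι
    intro σ
    rw [Sigma.ι_desc]
    infer_instance
  haveI : Surjective (Sigma.desc c) := by
    constructor
    intro z
    obtain ⟨σ, y, rfl⟩ := hsurj z
    refine ⟨(Sigma.ι Y σ) y, ?_⟩
    rw [← Scheme.Hom.comp_apply, Sigma.ι_desc]
  exact univSubmersive_of_universallyClosed_surjective _

section

variable {X S : Scheme.{u}} (q : X ⟶ S) [IsFinite q] [Surjective q] {G : Type u} [Group G]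
  [Finite G] (ρ : G →* Aut X) (hρ : ∀ g : G, (ρ g).hom ≫ q = q)
  (htrans : ∀ (Ω : Type u) [Field Ω] [IsAlgClosed Ω]
    (τ₁ τ₂ : Spec (CommRingCat.of Ω) ⟶ X), τ₁ ≫ q = τ₂ ≫ q → ∃ g : G, τ₁ ≫ (ρ g).hom = τ₂)
  (F : Scheme.{u}ᵒᵖ ⥤ Type w)
  (hF : ∀ ⦃T : Scheme.{u}⦄ (E : PreZeroHypercover.{u} T), Finite E.I₀ →
    (∀ i, LocallyOfFiniteType (E.f i)) → (∀ i, QuasiCompact (E.f i)) →
    (∀ i, LocallyQuasiFinite (E.f i)) → SGA1.UnivSubmersive (Sigma.desc E.f) →
    Presieve.IsSheafFor F E.presieve₀)

/-- The graph of a translate. -/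
noncomputable def graphMap (σ : G) : X ⟶ pullback q q :=
  pullback.lift (𝟙 X) (ρ σ).hom (by rw [Category.id_comp, hρ])

include hF in
theorem isSheafFor_singleton_q : Presieve.IsSheafFor F (Presieve.singleton q) := by
  have h := hF (PreZeroHypercover.singleton q) (inferInstanceAs (Finite PUnit))
    (fun _ => inferInstanceAs (LocallyOfFiniteType q)) (fun _ => inferInstanceAs (QuasiCompact q))
    (fun _ => inferInstanceAs (LocallyQuasiFinite q)) ?_
  · rwa [PreZeroHypercover.presieve₀_singleton] at h
  · haveI : ∀ i, IsFinite ((PreZeroHypercover.singleton q).f i) :=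
      fun _ => inferInstanceAs (IsFinite q)
    refine univSubmersive_sigmaDesc (G := PUnit.{u + 1}) _ _ fun z => ?_
    obtain ⟨x, rfl⟩ := q.surjective z
    exact ⟨PUnit.unit, x, rfl⟩

include hρ htrans hF in
theorem map_fst_eq_map_snd_of_invariant (f : F.obj (op X))
    (hf : ∀ g : G, F.map (ρ g).hom.op f = f) :
    F.map (pullback.fst q q).op f = F.map (pullback.snd q q).op f := by
  -- the covering of `X ×_S X` by the graphs of the translates
  let E : PreZeroHypercover.{u} (pullback q q) :=
    { I₀ := G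
      X := fun _ => X
      f := fun σ => graphMap q ρ hρ σ }
  have hfst : ∀ σ, graphMap q ρ hρ σ ≫ pullback.fst q q = 𝟙 X := fun σ => pullback.lift_fst _ _ _
  have hsnd : ∀ σ, graphMap q ρ hρ σ ≫ pullback.snd q q = (ρ σ).hom :=
    fun σ => pullback.lift_snd _ _ _
  haveI hfin : ∀ σ, IsFinite (graphMap q ρ hρ σ) := by
    intro σ
    haveI : IsFinite (graphMap q ρ hρ σ ≫ pullback.fst q q) := by
      rw [hfst]
      infer_instance
    exact IsFinite.of_comp _ (pullback.fst q q)
  have hsurj : ∀ z : ↥(pullback q q), ∃ σ, z ∈ Set.range (graphMap q ρ hρ σ) := by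
    intro w
    let Ω := AlgebraicClosure ((pullback q q).residueField w)
    obtain ⟨τ, hτdef⟩ : ∃ τ : Spec (CommRingCat.of Ω) ⟶ pullback q q,
        τ = Spec.map (CommRingCat.ofHom (algebraMap ((pullback q q).residueField w) Ω)) ≫
        (pullback q q).fromSpecResidueField w := ⟨_, rfl⟩
    have hτ : spt τ = w := spt_eq_of_eq_SpecMap _ _ hτdef
    have hc : (τ ≫ pullback.fst q q) ≫ q = (τ ≫ pullback.snd q q) ≫ q := by
      rw [Category.assoc, Category.assoc, pullback.condition]
    obtain ⟨g, hg⟩ := htrans Ω _ _ hc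
    have key : (τ ≫ pullback.fst q q) ≫ graphMap q ρ hρ g = τ := by
      apply pullback.hom_ext
      · rw [Category.assoc, hfst, Category.comp_id]
      · rw [Category.assoc, hsnd, hg]
    refine ⟨g, spt (τ ≫ pullback.fst q q), ?_⟩
    have h1 : (graphMap q ρ hρ g) (spt (τ ≫ pullback.fst q q)) =
        spt ((τ ≫ pullback.fst q q) ≫ graphMap q ρ hρ g) := rfl
    rw [h1, key]
    exact hτ
  have hE : Presieve.IsSheafFor F E.presieve₀ :=
    hF E (inferInstanceAs (Finite G)) (fun σ => inferInstanceAs (LocallyOfFiniteType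
      (graphMap q ρ hρ σ))) (fun σ => inferInstanceAs (QuasiCompact (graphMap q ρ hρ σ)))
      (fun σ => inferInstanceAs (LocallyQuasiFinite (graphMap q ρ hρ σ)))
      (univSubmersive_sigmaDesc (fun _ : G => X) (fun σ => graphMap q ρ hρ σ) hsurj)
  -- both sections restrict to `f` along every graph
  rw [Presieve.isSheafFor_arrows_iff] at hE
  let x : ∀ σ : G, F.obj (op X) := fun _ => f
  have h1 : ∀ σ : G, F.map (graphMap q ρ hρ σ).op (F.map (pullback.fst q q).op f) = x σ := by
    intro σ
    rw [← FunctorToTypes.map_comp_apply, ← op_comp, hfst]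
    simp [x]
  have h2 : ∀ σ : G, F.map (graphMap q ρ hρ σ).op (F.map (pullback.snd q q).op f) = x σ := by
    intro σ
    rw [← FunctorToTypes.map_comp_apply, ← op_comp, hsnd]
    exact hf σ
  have hcompat : Presieve.Arrows.Compatible F E.f x := by
    intro i j Z gi gj hcomm
    have e1 : gi = gi ≫ E.f i ≫ pullback.fst q q := by
      have : E.f i ≫ pullback.fst q q = 𝟙 X := hfst i
      rw [this, Category.comp_id]
    have e2 : gj = gj ≫ E.f j ≫ pullback.fst q q := by
      have : E.f j ≫ pullback.fst q q = 𝟙 X := hfst j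
      rw [this, Category.comp_id]
    have e3 : gi = gj := by
      rw [e1, e2, ← Category.assoc, ← Category.assoc, hcomm]
    rw [e3]
  obtain ⟨t, -, htu⟩ := hE x hcompat
  exact (htu _ h1).trans (htu _ h2).symm

include hρ htrans hF in
theorem sections_eq_invariants :
    Function.Injective (F.map q.op) ∧
      Set.range (F.map q.op) = {f : F.obj (op X) | ∀ g : G, F.map (ρ g).hom.op f = f} := by
  have hsh := isSheafFor_singleton_q q F hF
  constructor
  · exact Presieve.isSeparatedFor_singleton.1 hsh.isSeparatedFor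
  · apply Set.Subset.antisymm
    · rintro _ ⟨y, rfl⟩ g
      rw [← FunctorToTypes.map_comp_apply, ← op_comp, hρ]
    · intro f hf
      rw [Presieve.isSheafFor_singleton] at hsh
      have heq := map_fst_eq_map_snd_of_invariant q ρ hρ htrans F hF f hf
      obtain ⟨y, hy, -⟩ := hsh f (by
        intro Z p₁ p₂ hp
        obtain ⟨l, hl1, hl2⟩ : ∃ l : Z ⟶ pullback q q,
            l ≫ pullback.fst q q = p₁ ∧ l ≫ pullback.snd q q = p₂ :=
          ⟨pullback.lift p₁ p₂ hp, pullback.lift_fst _ _ _, pullback.lift_snd _ _ _⟩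
        subst hl1
        subst hl2
        rw [op_comp, op_comp, FunctorToTypes.map_comp_apply,
          FunctorToTypes.map_comp_apply, heq])
      exact ⟨y, hy⟩

end

end Groth.Agent.Lib.Helper18.PairPt
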