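import Mathlib

/-!
# Transport of algebraic independence and algebraicity into a big field

For a field extension `M / F` and an embedding `g : M →+* Ω` we compare algebraic independence and
algebraicity over `F` with the same notions over the subfield `Λ = g(F)` of `Ω`.
-/

set_option autoImplicit false
set_option linter.style.haveILetI false
universe u
open Function

namespace Groth.Agent.Lib.Helper18.PairPt

section subfield

variable {Ω : Type*} [Field Ω]

/-- The elements of a field algebraic over a domain acting on it form a subfield. -/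
def algSubfield (R : Type*) [CommRing R] [IsDomain R] [Algebra R Ω] : Subfield Ω where
  carrier := {z | IsAlgebraic R z}
  mul_mem' ha hb := ha.mul hb
  one_mem' := isAlgebraic_one
  add_mem' ha hb := ha.add hb
  zero_mem' := isAlgebraic_zero
  neg_mem' ha := ha.neg
  inv_mem' _ ha := IsAlgebraic.inv_iff.2 ha

theorem mem_algSubfield {R : Type*} [CommRing R] [IsDomain R] [Algebra R Ω] {z : Ω} :
    z ∈ algSubfield (Ω := Ω) R ↔ IsAlgebraic R z := Iff.rfl

/-- If `N₁` is algebraic over `Λ[τ]` then so is the compositum `N₁ ⊔ Λ`. -/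
theorem isAlgebraic_of_mem_sup {ι : Type*} (Λ N₁ : Subfield Ω) (τ : ι → Ω)
    (h : ∀ z ∈ N₁, IsAlgebraic (Algebra.adjoin Λ (Set.range τ)) z) :
    ∀ z ∈ N₁ ⊔ Λ, IsAlgebraic (Algebra.adjoin Λ (Set.range τ)) z := by
  have h1 : N₁ ≤ algSubfield (Ω := Ω) (Algebra.adjoin Λ (Set.range τ)) := fun z hz => h z hz
  have h2 : Λ ≤ algSubfield (Ω := Ω) (Algebra.adjoin Λ (Set.range τ)) := by
    intro z hz
    have : z = algebraMap (Algebra.adjoin Λ (Set.range τ)) Ω (algebraMap Λ _ ⟨z, hz⟩) := rfl
    rw [mem_algSubfield, this]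
    exact isAlgebraic_algebraMap _
  exact fun z hz => (sup_le h1 h2) hz

end subfield

section adjoinMap

variable {R S A B : Type*} [CommRing R] [CommRing S] [CommRing A] [CommRing B] [Algebra R A]
  [Algebra S B] (f₀ : R →+* S) (g : A →+* B)
  (h : (algebraMap S B).comp f₀ = g.comp (algebraMap R A)) {ι : Type*} (τ : ι → A)

include h in
theorem map_mem_adjoin {a : A} (ha : a ∈ Algebra.adjoin R (Set.range τ)) :
    g a ∈ Algebra.adjoin S (Set.range (g ∘ τ)) := by
  induction ha using Algebra.adjoin_induction with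
  | mem x hx =>
    obtain ⟨i, rfl⟩ := hx
    exact Algebra.subset_adjoin ⟨i, rfl⟩
  | algebraMap r =>
    have : g (algebraMap R A r) = algebraMap S B (f₀ r) := (RingHom.congr_fun h r).symm
    rw [this]
    exact Subalgebra.algebraMap_mem _ _
  | add x y _ _ hx hy => rw [map_add]; exact add_mem hx hy
  | mul x y _ _ hx hy => rw [map_mul]; exact mul_mem hx hy

/-- The restriction of `g` to the adjoined subalgebras. -/
noncomputable def adjoinMap :
    Algebra.adjoin R (Set.range τ) →+* Algebra.adjoin S (Set.range (g ∘ τ)) :=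
  g.restrict (Algebra.adjoin R (Set.range τ)) (Algebra.adjoin S (Set.range (g ∘ τ)))
    (fun _ ha => map_mem_adjoin f₀ g h τ ha)

theorem adjoinMap_comp :
    (algebraMap (Algebra.adjoin S (Set.range (g ∘ τ))) B).comp (adjoinMap f₀ g h τ) =
      g.comp (algebraMap (Algebra.adjoin R (Set.range τ)) A) := by
  ext a
  rfl

theorem adjoinMap_injective (hg : Function.Injective g) :
    Function.Injective (adjoinMap f₀ g h τ) := by
  intro a b hab
  apply Subtype.ext
  apply hg
  exact congrArg Subtype.val hab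

theorem adjoinMap_surjective (hf₀ : Function.Surjective f₀) :
    Function.Surjective (adjoinMap f₀ g h τ) := by
  rintro ⟨b, hb⟩
  suffices hs : ∃ a ∈ Algebra.adjoin R (Set.range τ), g a = b by
    obtain ⟨a, ha, rfl⟩ := hs
    exact ⟨⟨a, ha⟩, rfl⟩
  induction hb using Algebra.adjoin_induction with
  | mem x hx =>
    obtain ⟨i, rfl⟩ := hx
    exact ⟨τ i, Algebra.subset_adjoin ⟨i, rfl⟩, rfl⟩
  | algebraMap s =>
    obtain ⟨r, rfl⟩ := hf₀ s
    exact ⟨algebraMap R A r, Subalgebra.algebraMap_mem _ _, (RingHom.congr_fun h r).symm⟩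
  | add x y _ _ hx hy =>
    obtain ⟨a, ha, rfl⟩ := hx
    obtain ⟨c, hc, rfl⟩ := hy
    exact ⟨a + c, add_mem ha hc, map_add _ _ _⟩
  | mul x y _ _ hx hy =>
    obtain ⟨a, ha, rfl⟩ := hx
    obtain ⟨c, hc, rfl⟩ := hy
    exact ⟨a * c, mul_mem ha hc, map_mul _ _ _⟩

include h in
theorem isAlgebraic_adjoin_map (hg : Function.Injective g) {a : A}
    (ha : IsAlgebraic (Algebra.adjoin R (Set.range τ)) a) :
    IsAlgebraic (Algebra.adjoin S (Set.range (g ∘ τ))) (g a) :=
  ha.ringHom_of_comp_eq (adjoinMap f₀ g h τ) g (adjoinMap_injective f₀ g h τ hg)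
    (adjoinMap_comp f₀ g h τ)

include h in
theorem isAlgebraic_adjoin_of_map (hf₀ : Function.Surjective f₀) (hg : Function.Injective g)
    {a : A} (ha : IsAlgebraic (Algebra.adjoin S (Set.range (g ∘ τ))) (g a)) :
    IsAlgebraic (Algebra.adjoin R (Set.range τ)) a :=
  ha.of_ringHom_of_comp_eq (adjoinMap f₀ g h τ) g (adjoinMap_surjective f₀ g h τ hf₀) hg
    (adjoinMap_comp f₀ g h τ)

end adjoinMap

section transfer

variable {F M Ω : Type u} [Field F] [Field M] [Field Ω] [Algebra F M] (g : M →+* Ω)
  (Λ : Subfield Ω) (e : F ≃+* Λ) (he : ∀ c, (e c : Ω) = g (algebraMap F M c)) {ι : Type u}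

include he in
theorem transfer_comp : (algebraMap Λ Ω).comp (e : F →+* Λ) = g.comp (algebraMap F M) := by
  ext c
  exact he c

include he in
theorem transfer_algebraicIndependent (τ : ι → M) :
    AlgebraicIndependent Λ (g ∘ τ) ↔ AlgebraicIndependent F τ :=
  algebraicIndependent_ringHom_iff_of_comp_eq e g g.injective (transfer_comp g Λ e he)

include he in
theorem transfer_isAlgebraic (τ : ι → M) (y : M) :
    IsAlgebraic (Algebra.adjoin Λ (Set.range (g ∘ τ))) (g y) ↔
      IsAlgebraic (Algebra.adjoin F (Set.range τ)) y :=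
  ⟨isAlgebraic_adjoin_of_map (e : F →+* Λ) g (transfer_comp g Λ e he) τ e.surjective g.injective,
    isAlgebraic_adjoin_map (e : F →+* Λ) g (transfer_comp g Λ e he) τ g.injective⟩

include he in
/-- A transcendence basis maps to a transcendence basis under a surjective `g`. -/
theorem transfer_isTranscendenceBasis (hg : Function.Surjective g) (τ : ι → M)
    (hτ : IsTranscendenceBasis F τ) : IsTranscendenceBasis Λ (g ∘ τ) := by
  have hind : AlgebraicIndependent Λ (g ∘ τ) :=
    (transfer_algebraicIndependent g Λ e he τ).2 hτ.1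
  rw [hind.isTranscendenceBasis_iff_isAlgebraic]
  have halg := (hτ.1.isTranscendenceBasis_iff_isAlgebraic).1 hτ
  refine ⟨fun z => ?_⟩
  obtain ⟨y, rfl⟩ := hg z
  exact (transfer_isAlgebraic g Λ e he τ y).2 (halg.isAlgebraic y)

include he in
/-- The transcendence degree computed from an independent spanning family inside `Ω`. -/
theorem transfer_trdeg (tΩ : ι → Ω) (hmem : ∀ i, tΩ i ∈ g.fieldRange)
    (hind : AlgebraicIndependent Λ tΩ)
    (hspan : ∀ z ∈ g.fieldRange, IsAlgebraic (Algebra.adjoin Λ (Set.range tΩ)) z) :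
    Algebra.trdeg F M = Cardinal.mk ι := by
  choose τ hτ using hmem
  have hτ' : g ∘ τ = tΩ := funext hτ
  subst hτ'
  have hind' : AlgebraicIndependent F τ := (transfer_algebraicIndependent g Λ e he τ).1 hind
  have hb : IsTranscendenceBasis F τ := by
    rw [hind'.isTranscendenceBasis_iff_isAlgebraic]
    exact ⟨fun y => (transfer_isAlgebraic g Λ e he τ y).1 (hspan _ ⟨y, rfl⟩)⟩
  exact hb.cardinalMk_eq_trdeg.symm

end transfer

end Groth.Agent.Lib.Helper18.PairPt
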