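import Mathlib
import Groth.Prelude.Def_Dual3
import Groth.Agent.Lib.Helper18.PairPt.SpecPt
import Groth.Agent.Lib.Helper18.PairPt.Trdeg

/-!
# Residue transcendence degree of a field-valued point
-/

set_option autoImplicit false
set_option linter.style.haveILetI false
universe u
open AlgebraicGeometry CategoryTheory Limits IsLocalRing

namespace Groth.Agent.Lib.Helper18.PairPt

variable {Ω : Type u} [Field Ω] {Y Z : Scheme.{u}}

/-- The residue field of the image point of `v ≫ h` is identified with `imgField (v ≫ h)`. -/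
noncomputable def imgEquiv (v : Spec (CommRingCat.of Ω) ⟶ Y) (h : Y ⟶ Z) :
    Z.residueField (h (spt v)) ≃+* imgField (v ≫ h) :=
  (ptHom (v ≫ h)).rangeRestrictFieldEquiv

theorem imgEquiv_apply (v : Spec (CommRingCat.of Ω) ⟶ Y) (h : Y ⟶ Z)
    (c : Z.residueField (h (spt v))) :
    ((imgEquiv v h c : imgField (v ≫ h)) : Ω) = ptHom v ((h.residueFieldMap (spt v)).hom c) := by
  have h1 : ((imgEquiv v h c : imgField (v ≫ h)) : Ω) = ptHom (v ≫ h) c := rfl
  rw [h1, ptHom_comp]
  rfl

/-- The residue transcendence degree at the image point of `v`, computed inside `Ω`. -/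
theorem resTrdeg_eq_card (v : Spec (CommRingCat.of Ω) ⟶ Y) (h : Y ⟶ Z) {ι : Type u} (tΩ : ι → Ω)
    (hmem : ∀ i, tΩ i ∈ imgField v)
    (hind : AlgebraicIndependent (imgField (v ≫ h)) tΩ)
    (hspan : ∀ z ∈ imgField v,
      IsAlgebraic (Algebra.adjoin (imgField (v ≫ h)) (Set.range tΩ)) z) :
    Dual3.resTrdeg h (spt v) = Cardinal.mk ι := by
  letI := (h.residueFieldMap (spt v)).hom.toAlgebra
  exact transfer_trdeg (F := Z.residueField (h (spt v))) (M := Y.residueField (spt v))
    (ptHom v) (imgField (v ≫ h)) (imgEquiv v h) (imgEquiv_apply v h) tΩ hmem hind hspan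

/-- If `Ω` is the residue field of the image point, a transcendence basis exists inside `Ω`. -/
theorem exists_basis (v : Spec (CommRingCat.of Ω) ⟶ Y) (h : Y ⟶ Z) (hv : imgField v = ⊤) :
    ∃ (ι : Type u) (t : ι → Ω), Cardinal.mk ι = Dual3.resTrdeg h (spt v) ∧
      IsTranscendenceBasis (imgField (v ≫ h)) t := by
  letI := (h.residueFieldMap (spt v)).hom.toAlgebra
  obtain ⟨ι, τ, hτ⟩ := exists_isTranscendenceBasis' (Z.residueField (h (spt v)))
    (Y.residueField (spt v))
  refine ⟨ι, ptHom v ∘ τ, hτ.cardinalMk_eq_trdeg, ?_⟩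
  have hsurj : Function.Surjective (ptHom v) := by
    intro z
    have : z ∈ imgField v := by rw [hv]; trivial
    exact this
  exact transfer_isTranscendenceBasis (F := Z.residueField (h (spt v)))
    (M := Y.residueField (spt v)) (ptHom v) (imgField (v ≫ h)) (imgEquiv v h)
    (imgEquiv_apply v h) hsurj τ hτ

end Groth.Agent.Lib.Helper18.PairPt
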