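import Mathlib
import Groth.Prelude.Def_Dual3
import Groth.Agent.Lib.Helper18.PairPt.SpecPt
import Groth.Agent.Lib.Helper18.PairPt.Trdeg
import Groth.Agent.Lib.Helper18.PairPt.PtTrdeg
import Groth.Agent.Lib.Helper18.PairPt.Compositum2

/-!
# A point of `X''` over a pair of points of `X'` with prescribed transcendence degree
-/

set_option autoImplicit false
set_option linter.style.haveILetI false
universe u
open AlgebraicGeometry CategoryTheory Limits IsLocalRing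

namespace Groth.Agent.Lib.Helper18.PairPt

/-- A point with the same image as a point `vx` whose field is the residue field factors
through `vx`. -/
theorem exists_hom_of_spt_eq' {Y : Scheme.{u}} {Kx K₁ : Type u} [Field Kx] [Field K₁]
    (vx : Spec (CommRingCat.of Kx) ⟶ Y) (hvx : imgField vx = ⊤)
    (w : Spec (CommRingCat.of K₁) ⟶ Y) (h : spt w = spt vx) :
    ∃ φ : Kx →+* K₁, w = Spec.map (CommRingCat.ofHom φ) ≫ vx := by
  obtain ⟨φ', hφ'⟩ := exists_hom_of_spt_eq w (spt vx) h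
  have hbij : Function.Bijective (ptHom vx) := by
    refine ⟨(ptHom vx).injective, fun z => ?_⟩
    have : z ∈ imgField vx := by rw [hvx]; trivial
    exact this
  let ψ : Y.residueField (spt vx) ≃+* Kx := RingEquiv.ofBijective (ptHom vx) hbij
  refine ⟨φ'.comp (ψ.symm : Kx →+* Y.residueField (spt vx)), ?_⟩
  have h1 : (φ'.comp (ψ.symm : Kx →+* Y.residueField (spt vx))).comp (ptHom vx) = φ' := by
    ext c
    show φ' (ψ.symm (ψ c)) = φ' c
    rw [RingEquiv.symm_apply_apply]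
  have h2 : Spec.map (CommRingCat.ofHom (φ'.comp (ψ.symm : Kx →+* Y.residueField (spt vx)))) ≫ vx =
      Spec.map (CommRingCat.ofHom (φ'.comp (ψ.symm : Kx →+* Y.residueField (spt vx)))) ≫
        (Spec.map (CommRingCat.ofHom (ptHom vx)) ≫ Y.fromSpecResidueField (spt vx)) :=
    congrArg _ (SpecMap_ptHom vx).symm
  rw [h2, ← Category.assoc, ← Spec.map_comp, ← CommRingCat.ofHom_comp, h1]
  exact hφ'

variable {X S S' S'' X' X'' : Scheme.{u}}

/-- The situation at one of the two points `xᵢ` of `X'` over `x`. -/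
theorem basis_at (f : X ⟶ S) (r : ℕ) (g : S' ⟶ S)
    (f' : X' ⟶ S') (g' : X' ⟶ X) (hX : IsPullback g' f' f g)
    {Kx K₁ : Type u} [Field Kx] [Field K₁]
    (vx : Spec (CommRingCat.of Kx) ⟶ X) (hvx : imgField vx = ⊤)
    (v₁ : Spec (CommRingCat.of K₁) ⟶ X') (hv₁ : imgField v₁ = ⊤)
    (h₁ : g' (spt v₁) = spt vx) (hx₁ : Dual3.resTrdeg f' (spt v₁) = r)
    {ι : Type u} [Finite ι] (hι : Cardinal.mk ι = r) (t : ι → Kx)
    (ht : IsTranscendenceBasis (imgField (vx ≫ f)) t) :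
    ∃ φ : Kx →+* K₁,
      v₁ ≫ g' = Spec.map (CommRingCat.ofHom φ) ≫ vx ∧
      (∀ c ∈ imgField (vx ≫ f), φ c ∈ imgField (v₁ ≫ f')) ∧
      IsTranscendenceBasis (imgField (v₁ ≫ f')) (φ ∘ t) := by
  obtain ⟨φ, hφ⟩ := exists_hom_of_spt_eq' vx hvx (v₁ ≫ g') h₁
  have hle : (imgField (vx ≫ f)).map φ ≤ imgField (v₁ ≫ f') := by
    have e1 : imgField ((v₁ ≫ f') ≫ g) ≤ imgField (v₁ ≫ f') := imgField_comp_le (v₁ ≫ f') g
    have e2 : (v₁ ≫ f') ≫ g = Spec.map (CommRingCat.ofHom φ) ≫ (vx ≫ f) := by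
      rw [Category.assoc, ← hX.w, ← Category.assoc, hφ, Category.assoc]
    rw [e2, imgField_SpecMap_comp] at e1
    exact e1
  have hmem : ∀ c ∈ imgField (vx ≫ f), φ c ∈ imgField (v₁ ≫ f') :=
    fun c hc => hle ⟨c, hc, rfl⟩
  refine ⟨φ, hφ, hmem, ?_⟩
  -- the residue field at `x₁` is generated by `κ(x)` and `κ(f' x₁)`
  have htop : (⊤ : Subfield K₁) = φ.fieldRange ⊔ imgField (v₁ ≫ f') := by
    have e1 := imgField_of_isPullback hX v₁
    rw [hv₁, hφ, imgField_SpecMap_comp, hvx, ← RingHom.fieldRange_eq_map] at e1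
    exact e1
  -- spanning
  have hspan : ∀ z : K₁,
      IsAlgebraic (Algebra.adjoin (imgField (v₁ ≫ f')) (Set.range (φ ∘ t))) z := by
    intro z
    have hz : z ∈ φ.fieldRange ⊔ imgField (v₁ ≫ f') := by rw [← htop]; trivial
    refine isAlgebraic_of_mem_sup (imgField (v₁ ≫ f')) φ.fieldRange (φ ∘ t) ?_ z hz
    rintro _ ⟨a, rfl⟩
    have ha : IsAlgebraic (Algebra.adjoin (imgField (vx ≫ f)) (Set.range t)) a :=
      ((ht.1.isTranscendenceBasis_iff_isAlgebraic).1 ht).isAlgebraic a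
    exact isAlgebraic_adjoin_map (φ.restrict (imgField (vx ≫ f)) (imgField (v₁ ≫ f')) hmem) φ
      (by ext c; rfl) t φ.injective ha
  haveI : Algebra.IsAlgebraic (Algebra.adjoin (imgField (v₁ ≫ f')) (Set.range (φ ∘ t))) K₁ :=
    ⟨hspan⟩
  -- the transcendence degree
  obtain ⟨ι', t', hcard, hb⟩ := exists_basis v₁ f' hv₁
  have htr : Algebra.trdeg (imgField (v₁ ≫ f')) K₁ = r := by
    rw [← hb.cardinalMk_eq_trdeg, hcard, hx₁]
  exact Algebra.IsAlgebraic.isTranscendenceBasis_of_le_trdeg_of_finite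
    (R := imgField (v₁ ≫ f')) (φ ∘ t) (by rw [htr, hι])

theorem main_gen (f : X ⟶ S) (r : ℕ) (g : S' ⟶ S)
    (p q : S'' ⟶ S') (hS : IsPullback p q g g)
    (f' : X' ⟶ S') (g' : X' ⟶ X) (hX : IsPullback g' f' f g)
    (f'' : X'' ⟶ S'') (p' q' : X'' ⟶ X') (hp : IsPullback p' f'' f' p)
    (hq : IsPullback q' f'' f' q) (hpq : p' ≫ g' = q' ≫ g')
    {Kx K₁ K₂ : Type u} [Field Kx] [Field K₁] [Field K₂]
    (vx : Spec (CommRingCat.of Kx) ⟶ X) (hvx : imgField vx = ⊤)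
    (v₁ : Spec (CommRingCat.of K₁) ⟶ X') (hv₁ : imgField v₁ = ⊤)
    (v₂ : Spec (CommRingCat.of K₂) ⟶ X') (hv₂ : imgField v₂ = ⊤)
    (hx : Dual3.resTrdeg f (spt vx) = r)
    (h₁ : g' (spt v₁) = spt vx) (h₂ : g' (spt v₂) = spt vx)
    (hx₁ : Dual3.resTrdeg f' (spt v₁) = r) (hx₂ : Dual3.resTrdeg f' (spt v₂) = r) :
    ∃ x'' : X'', Dual3.resTrdeg f'' x'' = r ∧ p' x'' = spt v₁ ∧ q' x'' = spt v₂ := by
  -- a transcendence basis at `x`
  obtain ⟨ι, t, hcard, ht⟩ := exists_basis vx f hvx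
  have hι : Cardinal.mk ι = r := by rw [hcard, hx]
  haveI : Finite ι := by
    rw [← Cardinal.lt_aleph0_iff_finite, hι]
    exact Cardinal.natCast_lt_aleph0
  obtain ⟨φ₁, hφ₁, hm₁, hb₁⟩ := basis_at f r g f' g' hX vx hvx v₁ hv₁ h₁ hx₁ hι t ht
  obtain ⟨φ₂, hφ₂, hm₂, hb₂⟩ := basis_at f r g f' g' hX vx hvx v₂ hv₂ h₂ hx₂ hι t ht
  obtain ⟨Ω, hΩ, j₁, j₂, hj, hind⟩ := exists_compositum' φ₁ φ₂ _ _ _ hm₁ hm₂ t ht hb₁.1 hb₂.1
  obtain ⟨a, ha⟩ : ∃ a : Spec (CommRingCat.of Ω) ⟶ X',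
    a = Spec.map (CommRingCat.ofHom j₁) ≫ v₁ := ⟨_, rfl⟩
  obtain ⟨b, hb⟩ : ∃ b : Spec (CommRingCat.of Ω) ⟶ X',
    b = Spec.map (CommRingCat.ofHom j₂) ≫ v₂ := ⟨_, rfl⟩
  have hab : a ≫ g' = b ≫ g' := by
    rw [ha, hb, Category.assoc, Category.assoc, hφ₁, hφ₂, ← Category.assoc, ← Category.assoc,
      ← Spec.map_comp, ← Spec.map_comp, ← CommRingCat.ofHom_comp, ← CommRingCat.ofHom_comp, hj]
  have hc : (a ≫ f') ≫ g = (b ≫ f') ≫ g := by
    rw [Category.assoc, Category.assoc, ← hX.w, ← Category.assoc, ← Category.assoc, hab]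
  obtain ⟨c, hcp, hcq⟩ : ∃ c : Spec (CommRingCat.of Ω) ⟶ S'', c ≫ p = a ≫ f' ∧ c ≫ q = b ≫ f' :=
    ⟨hS.lift (a ≫ f') (b ≫ f') hc, hS.lift_fst _ _ _, hS.lift_snd _ _ _⟩
  obtain ⟨u, hup, huf⟩ : ∃ u : Spec (CommRingCat.of Ω) ⟶ X'', u ≫ p' = a ∧ u ≫ f'' = c :=
    ⟨hp.lift a c hcp.symm, hp.lift_fst _ _ _, hp.lift_snd _ _ _⟩
  have huq : u ≫ q' = b := by
    apply hX.hom_ext
    · rw [Category.assoc, ← hpq, ← Category.assoc, hup, hab]
    · rw [Category.assoc, hq.w, ← Category.assoc, huf, hcq]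
  refine ⟨spt u, ?_, ?_, ?_⟩
  · -- the transcendence degree
    have hΛ : imgField (u ≫ f'') =
        (imgField (v₁ ≫ f')).map j₁ ⊔ (imgField (v₂ ≫ f')).map j₂ := by
      rw [huf, imgField_of_isPullback hS c, hcp, hcq, ha, hb, Category.assoc, Category.assoc,
        imgField_SpecMap_comp, imgField_SpecMap_comp]
    have hU : imgField u = j₁.fieldRange ⊔ imgField (u ≫ f'') := by
      rw [imgField_of_isPullback hp u, hup, ha, imgField_SpecMap_comp, hv₁,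
        ← RingHom.fieldRange_eq_map]
    rw [← hι]
    refine resTrdeg_eq_card u f'' (fun i => j₁ (φ₁ (t i))) ?_ ?_ ?_
    · intro i
      rw [hU]
      exact le_sup_left (a := j₁.fieldRange) ⟨_, rfl⟩
    · exact hΛ ▸ hind
    · rw [hU]
      refine isAlgebraic_of_mem_sup (imgField (u ≫ f'')) j₁.fieldRange _ ?_
      rintro _ ⟨a₁, rfl⟩
      have ha₁ : IsAlgebraic
          (Algebra.adjoin (imgField (v₁ ≫ f')) (Set.range (φ₁ ∘ t))) a₁ :=
        ((hb₁.1.isTranscendenceBasis_iff_isAlgebraic).1 hb₁).isAlgebraic a₁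
      have hm : ∀ c ∈ imgField (v₁ ≫ f'), j₁ c ∈ imgField (u ≫ f'') := by
        intro c hc
        rw [hΛ]
        exact le_sup_left (a := (imgField (v₁ ≫ f')).map j₁) ⟨c, hc, rfl⟩
      exact isAlgebraic_adjoin_map (j₁.restrict (imgField (v₁ ≫ f')) (imgField (u ≫ f'')) hm) j₁
        (by ext c; rfl) (φ₁ ∘ t) j₁.injective ha₁
  · show spt (u ≫ p') = spt v₁
    rw [hup, ha, spt_SpecMap_comp]
  · show spt (u ≫ q') = spt v₂
    rw [huq, hb, spt_SpecMap_comp]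

end Groth.Agent.Lib.Helper18.PairPt
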