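import Mathlib
import Groth.Agent.Lib.Helper18.PairPt.ClosedPts
import Groth.Agent.Lib.Helper18.PairPt.Embed

/-! # Surjectivity is detected on points with values in a big algebraically closed field -/

set_option autoImplicit false
set_option linter.style.haveILetI false
set_option linter.unusedSectionVars false

universe u

open AlgebraicGeometry CategoryTheory Limits IsLocalRing

namespace Groth.Agent.Lib.Helper18.PairPt

open Groth.Agent.Lib.Helper18.GalFibre

variable (K Ω : Type u) [Field K] [Field Ω] [IsAlgClosed Ω] [Algebra K Ω]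
  (t : ℕ → Ω) (ht : AlgebraicIndependent K t)
  {X Y : Scheme.{u}} (pX : X ⟶ Spec (CommRingCat.of K)) (pY : Y ⟶ Spec (CommRingCat.of K))
  [LocallyOfFiniteType pX] [LocallyOfFiniteType pY] (f : X ⟶ Y) (hf : f ≫ pY = pX)

include t ht hf in
theorem exists_lift_of_surjective [Surjective f] (y : Spec (CommRingCat.of Ω) ⟶ Y)
    (hy : y ≫ pY = Spec.map (CommRingCat.ofHom (algebraMap K Ω))) :
    ∃ x : Spec (CommRingCat.of Ω) ⟶ X, x ≫ f = y := by
  haveI : LocallyOfFiniteType (f ≫ pY) := by rw [hf]; infer_instance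
  haveI : LocallyOfFiniteType f := locallyOfFiniteType_of_comp f pY
  obtain ⟨x₀, hx₀⟩ := f.surjective (spt y)
  obtain ⟨φ, hφ⟩ := exists_hom_of_spt_eq y (f x₀) hx₀.symm
  letI : Algebra K (Y.residueField (f x₀)) := (resStr K pY (f x₀)).hom.toAlgebra
  letI : Algebra (Y.residueField (f x₀)) (X.residueField x₀) :=
    (f.residueFieldMap x₀).hom.toAlgebra
  haveI : Algebra.EssFiniteType K (Y.residueField (f x₀)) := essFiniteType_preimage pY (f x₀)
  haveI : Algebra.EssFiniteType (Y.residueField (f x₀)) (X.residueField x₀) :=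
    RingHom.EssFiniteType.residueFieldMap (LocallyOfFiniteType.stalkMap f x₀)
  have hφK : φ.comp (resStr K pY (f x₀)).hom = algebraMap K Ω := by
    apply comp_resStr_of_over (f := pY) φ
    rw [← hφ, hy]
  let ι : Y.residueField (f x₀) →ₐ[K] Ω :=
    { φ with commutes' := fun c => RingHom.congr_fun hφK c }
  obtain ⟨j, hj⟩ := Embed.exists_ringHom_extending (K := K) (L := Y.residueField (f x₀))
    (F := X.residueField x₀) t ht ι
  refine ⟨Spec.map (CommRingCat.ofHom j) ≫ X.fromSpecResidueField x₀, ?_⟩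
  rw [Category.assoc, ← Scheme.Hom.SpecMap_residueFieldMap_fromSpecResidueField,
    ← Spec.map_comp_assoc, hφ]
  congr 2
  ext c
  exact RingHom.congr_fun hj c

include t ht in
theorem exists_point_over (y₀ : Y) :
    ∃ y : Spec (CommRingCat.of Ω) ⟶ Y,
      y ≫ pY = Spec.map (CommRingCat.ofHom (algebraMap K Ω)) ∧ spt y = y₀ := by
  letI : Algebra K (Y.residueField y₀) := (resStr K pY y₀).hom.toAlgebra
  haveI : Algebra.EssFiniteType K (Y.residueField y₀) := essFiniteType_preimage pY y₀
  obtain ⟨j, hj⟩ := Embed.exists_ringHom_extending (K := K) (L := K) (F := Y.residueField y₀)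
    t ht (Algebra.ofId K Ω)
  refine ⟨Spec.map (CommRingCat.ofHom j) ≫ Y.fromSpecResidueField y₀, ?_, ?_⟩
  · apply over_of_comp_resStr (f := pY) j
    ext c
    exact RingHom.congr_fun hj c
  · exact spt_eq_of_eq_SpecMap j _ rfl

include t ht hf in
theorem surjective_iff :
    Surjective f ↔ ∀ y : Spec (CommRingCat.of Ω) ⟶ Y,
      y ≫ pY = Spec.map (CommRingCat.ofHom (algebraMap K Ω)) →
        ∃ x : Spec (CommRingCat.of Ω) ⟶ X, x ≫ f = y := by
  constructor
  · intro hs y hy
    exact exists_lift_of_surjective K Ω t ht pX pY f hf y hy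
  · intro h
    constructor
    intro y₀
    obtain ⟨y, hy, hy₀⟩ := exists_point_over K Ω t ht pY y₀
    obtain ⟨x, hx⟩ := h y hy
    refine ⟨spt x, ?_⟩
    rw [← hy₀, ← hx]
    rfl

end Groth.Agent.Lib.Helper18.PairPt
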